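import Cfsg.Agent.Lib.SymSixCore.Swap

/-!
No element of `Q_a ∩ C(z)` is odd on the first factor: otherwise there is an `A₆`-invariant quadratic form on
the module `W` polarizing to the symplectic form.
-/

set_option autoImplicit false
set_option linter.style.haveILetI false
set_option linter.unusedSectionVars false

namespace Cfsg.Agent.SymSixCore

open Equiv Cfsg Cfsg.Agent.LargeExtra

universe u

theorem quad_points : beta (pcode 0 1) (pcode 1 2) = true ∧ beta (pcode 0 1) (pcode 2 3) = false ∧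
    wadd (pcode 0 1) (pcode 1 2) ≠ 0 ∧ wadd (pcode 0 1) (pcode 2 3) ≠ 0 := by decide +kernel

theorem t0_move : ∀ v : Vm, vadd (act (t0, 1) v) v = (v.2, 0) := by decide +kernel

/-- There is no invariant quadratic form polarizing to `beta`. -/
theorem no_invariant_form (lam : W4 → Bool) (hadd : ∀ a b, lam (wadd a b) = (lam a ^^ lam b ^^ beta a b))
    (hinv : ∀ τ, Perm.sign τ = 1 → ∀ y, lam (wact τ y) = lam y) : False := by
  have hy : ∀ y, y ≠ 0 → lam y = lam 1 := fun y h => by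
    obtain ⟨τ, hτ, rfl⟩ := transitive y h
    exact hinv τ hτ 1
  obtain ⟨b1, b2, n1, n2⟩ := quad_points
  have h1 := hadd (pcode 0 1) (pcode 1 2)
  have h2 := hadd (pcode 0 1) (pcode 2 3)
  rw [b1, hy _ n1, hy _ (pcode_ne 0 1 (by decide)), hy _ (pcode_ne 1 2 (by decide))] at h1
  rw [b2, hy _ n2, hy _ (pcode_ne 0 1 (by decide)), hy _ (pcode_ne 2 3 (by decide))] at h2
  revert h1 h2
  cases lam 1 <;> simp

variable {G : Type u} [Group G] [Finite G] {z : G} {Q : Subgroup G} {π : G → P3 × P6}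

namespace Coords

variable {vec : G → Vm} (D : Coords z Q π vec)
include D

theorem false_frame {g : G} (P : Pair Q z g) (ha : vec (g * z * g⁻¹) = ((1 : W4), (0 : W4)))
    (hO : Odd3 z Q π g) : False := by
  classical
  obtain ⟨g₂, hcg, hcz, hcπ, hcB⟩ := D.exists_c P ha hO
  have C := D.C
  set c := g₂ * z * g₂⁻¹ with hc
  set K := Qc Q g₂ with hK
  have hcQ : c ∉ Q := fun h => absurd (congrArg Prod.fst (hcπ.symm.trans (C.π_Q h)))
    (by decide : t0 ≠ (1 : P3))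
  have hzK : z ∉ K := fun h => hcQ (by
    have := C.symm_mem (g := 1) (g' := g₂) (by rw [one_mul, inv_one, mul_one]; exact h) (fun e => hcQ (by
      rw [hc, ← e]; simpa using C.zQ))
    simpa using mem_Qc.1 this)
  have haK : g * z * g⁻¹ ∈ K := C.symm_mem (g := g₂) (g' := g) hcg fun e => hcQ (show g₂ * z * g₂⁻¹ ∈ Q by rw [e]; exact P.mem)
  -- transfer between the two conjugates over `c`
  have key : ∀ (g' l : G), (g' * z * g'⁻¹ = c ∨ g' * z * g'⁻¹ = c * z) → l ∈ Q → (vec l).2 = 0 →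
      (vec l).1 ≠ 0 → l ∈ Qc Q g' → l ∈ K := by
    intro g' l he hl hl2 hl1 hm
    obtain ⟨k, -, hk, -, -, ek⟩ := D.conj_of_slice P ha hl (show vec l = ((vec l).1, (0 : W4)) from
      Prod.ext rfl hl2) hl1
    have hl' : k * g * z * (k * g)⁻¹ = l := by rw [← ek]; group
    have hne : ∀ x, (x = c ∨ x = c * z) → l ≠ x := by
      rintro x (rfl | rfl) e
      · exact hcQ (e ▸ hl)
      · exact hcQ (by
          have := Q.mul_mem hl C.zQ
          rwa [e, mul_assoc, C.zz, mul_one] at this)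
    have h1 := C.symm_mem (g := k * g) (g' := g') (by rwa [hl']) (by rw [hl']; exact hne _ he)
    have h2 : c ∈ Qc Q (k * g) := by
      rcases he with e | e <;> rw [e] at h1
      · exact h1
      · have := (Qc Q (k * g)).mul_mem h1 (C.pair_conj P hk).z_mem'
        rwa [mul_assoc, C.zz, mul_one] at this
    have h3 := C.symm_mem (g := g₂) (g' := k * g) h2 (by rw [hl']; exact (hne c (Or.inl rfl)).symm)
    rwa [hl'] at h3
  -- the stabiliser of `c` up to `z`
  have hφ : ∀ q, q ∈ Q → q * c * q⁻¹ * c⁻¹ ∈ Q ∧ vec (q * c * q⁻¹ * c⁻¹) = ((vec q).2, (0 : W4)) := by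
    intro q hq
    obtain ⟨h1, h2⟩ := D.vec_comm hcz hq
    rw [show q * c * q⁻¹ * c⁻¹ = (c * q * c⁻¹ * q⁻¹)⁻¹ by group]
    exact ⟨Q.inv_mem h1, by rw [D.vec_inv h1, h2, hcπ, t0_move]⟩
  have hstab : ∀ τ, Perm.sign τ = 1 → ∃ h, h * z = z * h ∧ π h = (1, τ) ∧
      (h * c * h⁻¹ = c ∨ h * c * h⁻¹ = c * z) := by
    intro τ hτ
    obtain ⟨h, hh, e⟩ := C.ev 1 τ (map_one _) hτ
    set r := h * c * h⁻¹ * c⁻¹ with hr
    have hhc := conjz hh hcz
    have hrQ : r ∈ Q := by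
      refine (C.π_ker r (mulz hhc (invz hcz))).1 ?_
      rw [hr, C.π_mul _ _ hhc (invz hcz), C.π_conj hh hcz, C.π_inv hcz, e, hcπ]
      exact Prod.ext (by simp) (by simp)
    have hr2 : (vec r).2 = 0 := by
      by_contra hne
      obtain ⟨b, hb⟩ := beta_nondeg _ hne
      obtain ⟨p, hp, hpv⟩ := D.surj (b, 0)
      have h1 := D.conj_slice (σ := 1) (τ := τ⁻¹) (j := 0) (y := b) (invz hh) hp
        (by rw [C.π_inv hh, e, Prod.inv_mk, inv_one]) hpv
      have h2 := comm_conj h (hcB _ (C.conjQ (invz hh) hp) (by rw [h1]; rfl))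
      rw [show h * (h⁻¹ * p * h⁻¹⁻¹) * h⁻¹ = p by group] at h2
      have h3 : r * p = p * r :=
        (show Commute (h * c * h⁻¹) p from h2).mul_left (show Commute c p from hcB p hp (by rw [hpv])).inv_left
      rw [D.comm r p hrQ hp, hpv, bf, (beta_self _).2.2, hb] at h3
      simp at h3
    obtain ⟨q, hq, hqv⟩ := D.surj (0, (vec r).1)
    have hqz := C.Qz hq
    have hsame : vec (q * c * q⁻¹ * c⁻¹) = vec r := by rw [(hφ q hq).2, hqv]; exact Prod.ext rfl hr2.symm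
    refine ⟨q⁻¹ * h, mulz (invz hqz) hh, by rw [C.π_mulQ hh (Q.inv_mem hq), e], ?_⟩
    have hch : h * c * h⁻¹ = r * c := by rw [hr, inv_mul_cancel_right]
    rw [show q⁻¹ * h * c * (q⁻¹ * h)⁻¹ = q⁻¹ * (h * c * h⁻¹) * q by group, hch]
    rcases D.veq (hφ q hq).1 hrQ hsame with f | f <;> rw [f]
    · left; group
    · right
      rw [show q⁻¹ * (q * c * q⁻¹ * c⁻¹ * z * c) * q = c * q⁻¹ * c⁻¹ * (z * c) * q by group, ← hcz,
        show c * q⁻¹ * c⁻¹ * (c * z) * q = c * q⁻¹ * (z * q) by group, ← hqz]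
      group
  -- exactly one of `w`, `w z` lies in `K`
  have hcov : ∀ w, w ∈ Q → (vec w).2 = 0 → w ∈ K ∨ w * z ∈ K := by
    intro w hw hw2
    by_cases h0 : (vec w).1 = 0
    · rcases (D.zero w hw).1 (Prod.ext h0 hw2) with e | e <;> rw [e]
      · exact Or.inl (one_mem _)
      · exact Or.inr (by rw [C.zz]; exact one_mem _)
    obtain ⟨τ, hτ, hτw⟩ := transitive _ h0
    obtain ⟨h, hh, e, hhc⟩ := hstab τ hτ
    have hv : vec (h * (g * z * g⁻¹) * h⁻¹) = vec w := by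
      rw [D.conj_slice (j := 0) (y := 1) hh P.mem e ha, hτw]
      exact Prod.ext rfl hw2.symm
    have hm := key (h * g₂) (h * (g * z * g⁻¹) * h⁻¹)
      (by rwa [show h * g₂ * z * (h * g₂)⁻¹ = h * c * h⁻¹ by rw [hc]; group])
      (C.conjQ hh P.mem) (by rw [hv, hw2]) (by rw [hv]; exact h0)
      (mem_Qc.2 (by
        rw [show (h * g₂)⁻¹ * (h * (g * z * g⁻¹) * h⁻¹) * (h * g₂) = g₂⁻¹ * (g * z * g⁻¹) * g₂ by group]
        exact mem_Qc.1 haK))
    rcases D.veq (C.conjQ hh P.mem) hw hv with f | f <;> rw [f]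
    · exact Or.inl hm
    · exact Or.inr (by rwa [mul_assoc, C.zz, mul_one])
  have hone : ∀ w, w ∈ K → w * z ∉ K := fun w h h' => hzK (by
    have := K.mul_mem (K.inv_mem h) h'
    rwa [inv_mul_cancel_left] at this)
  let ν : G → Bool := fun w => decide (w ∉ K)
  have νz : ∀ w, w ∈ Q → (vec w).2 = 0 → ν (w * z) = !ν w := by
    intro w hw hw2
    by_cases h : w ∈ K
    · simp [ν, h, hone w h]
    · simp [ν, h, (hcov w hw hw2).resolve_left h]
  have νmul : ∀ w w', w ∈ Q → w' ∈ Q → (vec w).2 = 0 → (vec w').2 = 0 → ν (w * w') = (ν w ^^ ν w') := by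
    intro w w' hw hw' h2 h2'
    by_cases h : w ∈ K <;> by_cases h' : w' ∈ K
    · simp [ν, h, h', K.mul_mem h h']
    · have : w * w' ∉ K := fun e => h' (by simpa using K.mul_mem (K.inv_mem h) e)
      simp [ν, h, h', this]
    · have : w * w' ∉ K := fun e => h (by simpa using K.mul_mem e (K.inv_mem h'))
      simp [ν, h, h', this]
    · have : w * w' ∈ K := by
        have := K.mul_mem ((hcov w hw h2).resolve_left h) ((hcov w' hw' h2').resolve_left h')
        rwa [show w * z * (w' * z) = w * (z * w') * z by group, ← C.Qz hw',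
          show w * (w' * z) * z = w * w' * (z * z) by group, C.zz, mul_one] at this
      simp [ν, h, h', this]
  have hφeq : ∀ q q', q ∈ Q → q' ∈ Q → (vec q).2 = (vec q').2 →
      q * c * q⁻¹ * c⁻¹ = q' * c * q'⁻¹ * c⁻¹ := by
    intro q q' hq hq' e
    have hp := Q.mul_mem hq' (Q.inv_mem hq)
    have hp2 : (vec (q' * q⁻¹)).2 = 0 := by
      rw [D.mul _ _ hq' (Q.inv_mem hq), D.vec_inv hq]
      exact (wadd_eq_zero _ _).2 e.symm
    have hcp := hcB _ hp hp2
    have hwp := D.slice_comm hp (hφ q hq).1 hp2 (by rw [(hφ q hq).2])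
    calc q * c * q⁻¹ * c⁻¹ = q * c * q⁻¹ * c⁻¹ * (q' * q⁻¹) * (c * (q' * q⁻¹)⁻¹ * c⁻¹) := by
          rw [← (show Commute c (q' * q⁻¹) from hcp).inv_right.eq.symm]; group
      _ = q' * q⁻¹ * (q * c * q⁻¹ * c⁻¹) * (c * (q' * q⁻¹)⁻¹ * c⁻¹) := by rw [hwp]
      _ = q' * c * q'⁻¹ * c⁻¹ := by group
  -- the form
  let rep : W4 → G := fun y => (D.surj (0, y)).choose
  have hrep : ∀ y, rep y ∈ Q ∧ vec (rep y) = (0, y) := fun y => (D.surj (0, y)).choose_spec
  let lam : W4 → Bool := fun y => ν (rep y * c * (rep y)⁻¹ * c⁻¹)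
  have hlam : ∀ q, q ∈ Q → lam (vec q).2 = ν (q * c * q⁻¹ * c⁻¹) := fun q hq =>
    congrArg ν (hφeq _ _ (hrep _).1 hq (by rw [(hrep _).2]))
  refine no_invariant_form lam (fun a b => ?_) (fun τ hτ y => ?_)
  · obtain ⟨hqa, hva⟩ := hrep a
    obtain ⟨hqb, hvb⟩ := hrep b
    obtain ⟨hfb, hvfb⟩ := hφ _ hqb
    obtain ⟨hfa, hvfa⟩ := hφ _ hqa
    have hs : (vec (rep a * rep b)).2 = wadd a b := by rw [D.mul _ _ hqa hqb, hva, hvb]; rfl
    rw [← hs, hlam _ (Q.mul_mem hqa hqb),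
      show rep a * rep b * c * (rep a * rep b)⁻¹ * c⁻¹ = rep a * (rep b * c * (rep b)⁻¹ * c⁻¹) * (rep a)⁻¹ *
        (rep a * c * (rep a)⁻¹ * c⁻¹) by group]
    show _ = (ν _ ^^ ν _ ^^ _)
    have hb' : bf (vec (rep a)) (vec (rep b * c * (rep b)⁻¹ * c⁻¹)) = beta a b := by
      rw [hvfb, hva, hvb, bf, (beta_self _).2.1, Bool.false_xor]
    rcases C.loc.toXSub.conj_cases hqa hfb with f | f <;> rw [f]
    · have := (D.comm _ _ hqa hfb).1 (XSub.conj_eq_self_iff.1 f)
      rw [νmul _ _ hfb hfa (by rw [hvfb]) (by rw [hvfa]), ← hb', this, Bool.xor_false, Bool.xor_comm]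
    · have : bf (vec (rep a)) (vec (rep b * c * (rep b)⁻¹ * c⁻¹)) = true := by
        by_contra hne
        have := XSub.conj_eq_self_iff.2 ((D.comm _ _ hqa hfb).2 (Bool.eq_false_of_not_eq_true hne))
        rw [f] at this
        exact C.loc.toXSub.ne_mul_z _ this.symm
      rw [νmul _ _ (Q.mul_mem hfb C.zQ) hfa (by rw [D.vec_mulz hfb, hvfb]) (by rw [hvfa]),
        νz _ hfb (by rw [hvfb]), ← hb', this]
      cases ν (rep b * c * (rep b)⁻¹ * c⁻¹) <;> cases ν (rep a * c * (rep a)⁻¹ * c⁻¹) <;> rfl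
  · obtain ⟨hq, hv⟩ := hrep y
    obtain ⟨h, hh, e, hhc⟩ := hstab τ hτ
    have hq' := C.conjQ hh hq
    obtain ⟨hw, hwv⟩ := hφ _ hq
    set w := rep y * c * (rep y)⁻¹ * c⁻¹ with hwd
    have hv' : (vec (h * rep y * h⁻¹)).2 = wact τ y := by
      rw [D.conj_slice (j := 1) (y := y) hh hq e (by rw [hv]; rfl)]
      rfl
    rw [← hv', hlam _ hq']
    show _ = ν w
    have himg : h * w * h⁻¹ = h * rep y * h⁻¹ * c * (h * rep y * h⁻¹)⁻¹ * c⁻¹ := by
      rw [show h * w * h⁻¹ =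
        h * rep y * h⁻¹ * (h * c * h⁻¹) * (h * rep y * h⁻¹)⁻¹ * (h * c * h⁻¹)⁻¹ by rw [hwd]; group]
      rcases hhc with f | f <;> rw [f]
      rw [show h * rep y * h⁻¹ * (c * z) * (h * rep y * h⁻¹)⁻¹ * (c * z)⁻¹ =
        h * rep y * h⁻¹ * c * (z * (h * rep y * h⁻¹)⁻¹) * z⁻¹ * c⁻¹ by group, ← invz (C.Qz hq')]
      group
    rw [← himg]
    have hmap : ∀ x, x ∈ Q → (vec x).2 = 0 → x ∈ K → h * x * h⁻¹ ∈ K := by
      intro x hx hx2 hxK
      have hv2 : vec (h * x * h⁻¹) = (wact τ (vec x).1, (0 : W4)) :=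
        D.conj_slice (σ := 1) (j := 0) hh hx e (Prod.ext rfl hx2)
      by_cases h0 : (vec x).1 = 0
      · rcases (D.zero x hx).1 (Prod.ext h0 hx2) with f | f
        · rw [f, mul_one, mul_inv_cancel]; exact one_mem _
        · exact absurd (f ▸ hxK) hzK
      refine key (h * g₂) _ (by rwa [show h * g₂ * z * (h * g₂)⁻¹ = h * c * h⁻¹ by rw [hc]; group])
        (C.conjQ hh hx) (by rw [hv2]) (by rw [hv2]; exact fun f => h0 (wact_inj (f.trans (wact_zero τ).symm))) ?_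
      refine mem_Qc.2 ?_
      rw [show (h * g₂)⁻¹ * (h * x * h⁻¹) * (h * g₂) = g₂⁻¹ * x * g₂ by group]
      exact mem_Qc.1 hxK
    by_cases hK' : w ∈ K
    · simp [ν, hK', hmap w hw (by rw [hwv]) hK']
    · have h1 := hmap _ (Q.mul_mem hw C.zQ) (by rw [D.vec_mulz hw, hwv]) ((hcov w hw (by rw [hwv])).resolve_left hK')
      rw [show h * (w * z) * h⁻¹ = h * w * h⁻¹ * (h * z * h⁻¹) by group, C.conj_z hh] at h1
      have : h * w * h⁻¹ ∉ K := fun f => hone _ f h1
      simp [ν, hK', this]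

end Coords

/-- No conjugate of `z` in `Q` has an element odd on the first factor in the image. -/
theorem Core.not_odd (C : Core z Q π) {g : G} (P : Pair Q z g) : ¬ Odd3 z Q π g := by
  intro hO
  obtain ⟨π', vec, D, hO'⟩ := C.exists_coords P hO
  obtain ⟨g', P', hO'', ha⟩ := D.normalise P hO'
  exact D.false_frame P' ha hO''

end Cfsg.Agent.SymSixCore
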