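import Cfsg.Agent.Lib.SymSixCore.Point

/-!
In the fixed point free case `Q/⟨z⟩` is the coded module `U ⊗ W`.
-/

set_option autoImplicit false
set_option linter.style.haveILetI false
set_option linter.unusedSectionVars false

namespace Cfsg.Agent.SymSixCore

open Equiv Cfsg Cfsg.Agent.LargeExtra

universe u

/-- The transposition of the first factor fixing the first slice. -/
def t0 : P3 := swap 1 2
/-- The transposition of the second factor fixing the first pair. -/
def tau0 : P6 := swap 0 1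

theorem small_facts : t0 * x3 * t0⁻¹ = x3 * x3 ∧ t0 * t0 = 1 ∧ tau0 * tau0 = 1 ∧ Perm.sign t0 = -1 ∧
    Perm.sign tau0 = -1 ∧ wact tau0 1 = 1 ∧ x3 0 = 1 ∧ x3 1 = 2 ∧ x3 2 = 0 ∧ t0 0 = 0 := by decide +kernel

theorem sigma_even : ∀ σ : P3, Perm.sign σ = 1 → σ = 1 ∨ σ = x3 ∨ σ = x3 * x3 := by decide +kernel

set_option maxHeartbeats 4000000 in
theorem orbit_meet : ∀ y y' : W4, beta y y' = true →
    ∃ τ : P6, Perm.sign τ = 1 ∧ wact τ 1 = y ∧ wact τ (pcode 1 2) = y' := by decide +kernel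

set_option maxHeartbeats 4000000 in
theorem orbit_disj : ∀ y y' : W4, y ≠ 0 → y' ≠ 0 → y ≠ y' → beta y y' = false →
    ∃ τ : P6, Perm.sign τ = 1 ∧ wact τ 1 = y ∧ wact τ (pcode 2 3) = y' := by decide +kernel

set_option maxHeartbeats 4000000 in
theorem moving : ∀ a b : W4, a ≠ 0 → b ≠ 0 → a ≠ b →
    ∃ τ : P6, Perm.sign τ = 1 ∧ wact τ a = a ∧ wact τ b ≠ b := by decide +kernel

set_option maxHeartbeats 4000000 in
theorem triangle_move : ∀ a b c : Fin 6, a ≠ b → b ≠ c → a ≠ c →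
    ∃ τ : P6, Perm.sign τ = 1 ∧ τ 0 = a ∧ τ 1 = b ∧ τ 2 = c := by decide +kernel

theorem pcode_facts : pcode 0 1 = 1 ∧ pcode 1 2 = 2 ∧ pcode 2 3 = 4 ∧ pcode 3 4 = 8 ∧
    pcode 4 5 = wadd 1 (pcode 2 3) ∧ beta 1 (pcode 1 2) = true ∧ beta 1 (pcode 2 3) = false ∧
    pcode 1 3 = wadd (pcode 1 2) (pcode 2 3) ∧ beta 1 (pcode 1 3) = true ∧
    wadd (pcode 0 2) (pcode 1 2) = 1 ∧ beta 1 (pcode 0 2) = true ∧ pcode 0 5 = 10 ∧
    pcode 0 2 = 3 ∧ pcode 0 3 = 7 ∧ pcode 0 4 = 15 ∧ pcode 1 4 = wadd (pcode 0 1) (pcode 0 4) := by decide +kernel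

variable {G : Type u} [Group G] [Finite G] {z : G} {Q : Subgroup G} {π : G → P3 × P6}
variable {V : Type u} [AddCommGroup V] {v : G → V} {A : P3 × P6 → V →+ V} {q : V → Bool} {B : V → V → Bool}

/-- Coordinates for `Q/⟨z⟩`. -/
structure Coords (z : G) (Q : Subgroup G) (π : G → P3 × P6) (vec : G → Vm) : Prop where
  C : Core z Q π
  mul : ∀ p r, p ∈ Q → r ∈ Q → vec (p * r) = vadd (vec p) (vec r)
  zero : ∀ p, p ∈ Q → (vec p = (0, 0) ↔ p = 1 ∨ p = z)
  surj : ∀ u, ∃ p, p ∈ Q ∧ vec p = u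
  sq : ∀ p, p ∈ Q → (p * p = 1 ↔ qf (vec p) = false)
  comm : ∀ p r, p ∈ Q → r ∈ Q → (p * r = r * p ↔ bf (vec p) (vec r) = false)
  conj : ∀ h p, h * z = z * h → p ∈ Q → vec (h * p * h⁻¹) = act (π h) (vec p)

namespace Space

variable (S : Space z Q π V v A q B)
include S

theorem exists_odd_rep : ∃ τ₀, (τ₀ = 1 ∨ τ₀ = tau0) ∧ ∃ h, h * z = z * h ∧ π h = (t0, τ₀) := by
  obtain ⟨h, hh, hs⟩ := S.C.odd
  obtain ⟨-, -, -, st, s6, -⟩ := small_facts
  have key : ∀ τ₀ : P6, Perm.sign τ₀ = Perm.sign (π h).2 → ∃ k, k * z = z * k ∧ π k = (t0, τ₀) := by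
    intro τ₀ hτ
    obtain ⟨k, hk, e⟩ := S.C.ev (t0 * (π h).1⁻¹) (τ₀ * (π h).2⁻¹) (by rw [map_mul, map_inv, hs, st]; rfl)
      (by rw [map_mul, map_inv, hτ, mul_inv_cancel])
    exact ⟨k * h, mulz hk hh, by rw [S.C.π_mul k h hk hh, e]; exact Prod.ext (by simp) (by simp)⟩
  rcases Int.units_eq_one_or (Perm.sign (π h).2) with e | e
  · exact ⟨1, Or.inl rfl, key 1 (by rw [e, map_one])⟩
  · exact ⟨tau0, Or.inr rfl, key tau0 (by rw [e, s6])⟩

/-- Coordinates from a fixed vector. -/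
theorem exists_coords {g : G} (P : Pair Q z g) (hO : Odd3 z Q π g) {w : V} (hw : w ≠ 0)
    (hfix : ∀ τ, Perm.sign τ = 1 → wact τ 1 = 1 → A (1, τ) w = w)
    (hline : ∀ u, (∀ τ, Perm.sign τ = 1 → wact τ 1 = 1 → A (1, τ) u = u) →
      u = 0 ∨ u = w ∨ u = A (x3, 1) w ∨ u = A (x3, 1) (A (x3, 1) w)) :
    ∃ vec, Coords z Q π vec := by
  classical
  have M := S.moved P hO
  have N := S.nine
  set X := A (x3, 1) with hX
  have hX3 := N.X3
  obtain ⟨tx, tt, τ2, st0, sτ0, hτ01, x0, x1, x2, t00⟩ := small_facts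
  have o6 : Perm.sign (1 : P6) = 1 := map_one _
  have o3 : Perm.sign (1 : P3) = 1 := map_one _
  have hXne : ∀ u : V, u ≠ 0 → X u ≠ u := fun u hu h => hu (by
    have := M.moved u
    rwa [h, h, N.three] at this)
  -- the elements fixing the pair normalise its stabiliser
  have hnorm : ∀ (σ : P3) (τ₀ : P6) h, h * z = z * h → π h = (σ, τ₀) → ∀ τ, Perm.sign τ = 1 → ∀ u,
      A (π h) (A (1, τ) u) = A (1, τ₀ * τ * τ₀⁻¹) (A (π h) u) := by
    intro σ τ₀ h hh e τ hτ u
    obtain ⟨k, hk, ek⟩ := S.C.ev 1 τ o3 hτ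
    obtain ⟨k', hk', ek'⟩ := S.C.ev 1 (τ₀ * τ * τ₀⁻¹) o3 (by
      rw [map_mul, map_mul, map_inv, hτ, mul_one, mul_inv_cancel])
    rw [← ek, ← ek', ← S.A_mul hh hk, ← S.A_mul hk' hh, ek, ek', e]
    congr 2
    exact Prod.ext (by simp) (by simp)
  have hXcomm : ∀ (σ : P3) (τ₀ : P6) h, h * z = z * h → π h = (σ, τ₀) → ∀ u,
      A (π h) (X u) = A (σ * x3 * σ⁻¹, 1) (A (π h) u) := by
    intro σ τ₀ h hh e u
    obtain ⟨k, hk, ek⟩ := S.C.ev x3 1 sign_x3.1 o6
    obtain ⟨k', hk', ek'⟩ := S.C.ev (σ * x3 * σ⁻¹) 1 (by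
      rw [map_mul, map_mul, map_inv, sign_x3.1, mul_one, mul_inv_cancel]) o6
    rw [hX, ← ek, ← ek', ← S.A_mul hh hk, ← S.A_mul hk' hh, ek, ek', e]
    congr 2
    exact Prod.ext (by simp) (by simp)
  have hmap : ∀ (σ : P3) (τ₀ : P6) h, h * z = z * h → π h = (σ, τ₀) → (τ₀ = 1 ∨ τ₀ = tau0) →
      A (π h) w = w ∨ A (π h) w = X w ∨ A (π h) w = X (X w) := by
    intro σ τ₀ h hh e hτ₀
    refine (hline _ fun τ hτ hs => ?_).resolve_left fun h0 => ?_
    · have hτ₁ : wact τ₀ 1 = 1 := by rcases hτ₀ with rfl | rfl; exacts [wact_one 1, hτ01]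
      have hτ₁' : wact τ₀⁻¹ 1 = 1 := by
        conv_lhs => rw [← hτ₁]
        rw [← wact_mul, inv_mul_cancel, wact_one]
      have hs' : Perm.sign (τ₀⁻¹ * τ * τ₀) = 1 := by
        rw [map_mul, map_mul, map_inv, hτ, mul_one, inv_mul_cancel]
      have := hnorm σ τ₀ h hh e (τ₀⁻¹ * τ * τ₀) hs' w
      rw [hfix _ hs' (by rw [wact_mul, wact_mul, hτ₁, hs, hτ₁']),
        show τ₀ * (τ₀⁻¹ * τ * τ₀) * τ₀⁻¹ = τ by group] at this
      exact this.symm
    · have h1 := congrArg (A (π h⁻¹)) h0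
      rw [map_zero, ← S.A_mul (invz hh) hh, ← S.C.π_mul _ _ (invz hh) hh, inv_mul_cancel, S.C.π_one, S.A_one] at h1
      exact hw h1
  -- a vector fixed by the odd element
  obtain ⟨τ₀, hτ₀, h0, hh0, e0⟩ := S.exists_odd_rep
  obtain ⟨w₀, hw₀, hfix₀, hodd⟩ : ∃ w₀, w₀ ≠ 0 ∧ (∀ τ, Perm.sign τ = 1 → wact τ 1 = 1 → A (1, τ) w₀ = w₀) ∧
      A (π h0) w₀ = w₀ := by
    have hXX : ∀ u, A (π h0) (X u) = X (X (A (π h0) u)) := fun u => by
      rw [hXcomm t0 τ₀ h0 hh0 e0, tx, hX, ← S.A_ev sign_x3.1 o6 sign_x3.1 o6, mul_one]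
    have hfX : ∀ u, (∀ τ, Perm.sign τ = 1 → wact τ 1 = 1 → A (1, τ) u = u) →
        ∀ τ, Perm.sign τ = 1 → wact τ 1 = 1 → A (1, τ) (X u) = X u := fun u hu τ hτ hs => by
      rw [hX, ← S.cx hτ, hu τ hτ hs]
    have hX0 : ∀ u, u ≠ 0 → X u ≠ 0 := fun u hu h => hu (by rw [← hX3 u, h, map_zero, map_zero])
    rcases hmap t0 τ₀ h0 hh0 e0 hτ₀ with e | e | e
    · exact ⟨w, hw, hfix, e⟩
    · exact ⟨X (X w), hX0 _ (hX0 _ hw), hfX _ (hfX _ hfix), by rw [hXX, hXX, e, hX3]⟩
    · exact ⟨X w, hX0 _ hw, hfX _ hfix, by rw [hXX, e, hX3]⟩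
  -- the vectors of the pairs
  let wv : W4 → V := fun y => if hy : y ≠ 0 then A (1, (transitive y hy).choose) w₀ else 0
  have wv0 : wv 0 = 0 := dif_neg (by simp)
  have wv1 : ∀ τ, Perm.sign τ = 1 → wv (wact τ 1) = A (1, τ) w₀ := by
    intro τ hτ
    have hy : wact τ 1 ≠ 0 := fun h => absurd (wact_inj (h.trans (wact_zero τ).symm)) (by decide)
    simp only [wv, dif_pos hy]
    obtain ⟨hs, he⟩ := (transitive _ hy).choose_spec
    generalize (transitive _ hy).choose = ρ at hs he ⊢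
    have hρi : Perm.sign ρ⁻¹ = 1 := by rw [map_inv, hs, inv_one]
    have hsr : Perm.sign (ρ⁻¹ * τ) = 1 := by rw [map_mul, hρi, hτ, one_mul]
    conv_rhs => rw [show τ = ρ * (ρ⁻¹ * τ) by group, ← S.A6 hs hsr]
    rw [hfix₀ _ hsr (by rw [wact_mul, ← he, ← wact_mul, inv_mul_cancel, wact_one])]
  have wvact : ∀ τ y, Perm.sign τ = 1 → A (1, τ) (wv y) = wv (wact τ y) := by
    intro τ y hτ
    by_cases hy : y = 0
    · rw [hy, wv0, map_zero, wact_zero, wv0]
    obtain ⟨ρ, hρ, rfl⟩ := transitive y hy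
    rw [wv1 ρ hρ, S.A6 hτ hρ, ← wact_mul, wv1 _ (by rw [map_mul, hτ, hρ, one_mul])]
  have wvne : ∀ y, y ≠ 0 → wv y ≠ 0 := by
    intro y hy h
    obtain ⟨ρ, hρ, rfl⟩ := transitive y hy
    rw [wv1 ρ hρ] at h
    have h' := congrArg (A (1, ρ⁻¹)) h
    rw [map_zero, S.A6 (by rw [map_inv, hρ, inv_one]) hρ, inv_mul_cancel] at h'
    exact hw₀ ((S.A_one w₀).symm.trans h')
  -- triangles
  have hT : ∀ τ a b, Perm.sign τ = 1 → A (1, τ) (wv (pcode a b)) = wv (pcode (τ a) (τ b)) := fun τ a b hτ => by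
    rw [wvact τ _ hτ, wact_pcode]
  obtain ⟨-, -, -, -, -, -, s1, s2, -⟩ := nine_rel
  have tri : ∀ a b c : Fin 6, a ≠ b → b ≠ c → a ≠ c → wv (pcode a c) = wv (pcode a b) + wv (pcode b c) := by
    intro a b c hab hbc hac
    obtain ⟨τ, hτ, rfl, rfl, rfl⟩ := triangle_move a b c hab hbc hac
    have key : wv (pcode 0 1) + wv (pcode 1 2) + wv (pcode 0 2) = 0 := by
      refine M.free _ ?_ ?_
      · rw [map_add, map_add, hT _ _ _ s1, hT _ _ _ s1, hT _ _ _ s1, show th1 0 = 1 by decide +kernel,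
          show th1 1 = 2 by decide +kernel, show th1 2 = 0 by decide +kernel,
          show pcode 2 0 = pcode 0 2 by decide +kernel, show pcode 1 0 = pcode 0 1 by decide +kernel]
        abel
      · rw [map_add, map_add, hT _ _ _ s2, hT _ _ _ s2, hT _ _ _ s2, show th2 0 = 0 by decide +kernel,
          show th2 1 = 1 by decide +kernel, show th2 2 = 2 by decide +kernel]
    have := congrArg (A (1, τ)) key
    rw [map_add, map_add, hT _ _ _ hτ, hT _ _ _ hτ, hT _ _ _ hτ, (A (1, τ)).map_zero] at this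
    exact (add_left_cancel (this.trans (S.two (wv (pcode (τ 0) (τ 1)) + wv (pcode (τ 1) (τ 2)))).symm))
  let d : Fin 6 → V := fun a => wv (pcode 0 a)
  have d0 : d 0 = 0 := by rw [show d 0 = wv (pcode 0 0) from rfl, show pcode 0 0 = 0 by decide +kernel, wv0]
  have hd : ∀ a b, a ≠ b → wv (pcode a b) = d a + d b := by
    intro a b hab
    by_cases ha : a = 0
    · subst ha; rw [d0, zero_add]
    by_cases hb : b = 0
    · subst hb
      rw [d0, add_zero]
      exact congrArg wv (wadd_comm _ _)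
    rw [tri a 0 b ha (Ne.symm hb) hab, show pcode a 0 = pcode 0 a from wadd_comm _ _]
  have hsum : d 0 + d 1 + d 2 + d 3 + d 4 + d 5 = 0 := by
    have key : ∀ τ, Perm.sign τ = 1 → A (1, τ) (d 0 + d 1 + d 2 + d 3 + d 4 + d 5) =
        (d (τ 0) + d (τ 1) + d (τ 2) + d (τ 3) + d (τ 4) + d (τ 5)) := by
      intro τ hτ
      have e : ∀ a, A (1, τ) (d a) = d (τ 0) + d (τ a) := fun a => by
        by_cases ha : a = 0
        · subst ha; rw [d0, map_zero, S.two]
        · rw [show A (1, τ) (d a) = wv (pcode (τ 0) (τ a)) from hT τ 0 a hτ, hd _ _ (τ.injective.ne (Ne.symm ha))]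
      simp only [map_add, e]
      rw [show d (τ 0) + d (τ 0) + (d (τ 0) + d (τ 1)) + (d (τ 0) + d (τ 2)) + (d (τ 0) + d (τ 3)) +
        (d (τ 0) + d (τ 4)) + (d (τ 0) + d (τ 5)) = (d (τ 0) + d (τ 0)) + (d (τ 0) + d (τ 0)) +
        (d (τ 0) + d (τ 0)) + (d (τ 0) + d (τ 1) + d (τ 2) + d (τ 3) + d (τ 4) + d (τ 5)) by abel, S.two (d (τ 0))]
      abel
    refine M.free _ ?_ ?_
    · rw [key _ s1, show th1 0 = 1 by decide +kernel, show th1 1 = 2 by decide +kernel,
        show th1 2 = 0 by decide +kernel, show th1 3 = 3 by decide +kernel, show th1 4 = 4 by decide +kernel,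
        show th1 5 = 5 by decide +kernel]
      abel
    · rw [key _ s2, show th2 0 = 0 by decide +kernel, show th2 1 = 1 by decide +kernel,
        show th2 2 = 2 by decide +kernel, show th2 3 = 4 by decide +kernel, show th2 4 = 5 by decide +kernel,
        show th2 5 = 3 by decide +kernel]
      abel
  let Ψ : W4 → V := fun n => (if bit n 0 then wv (pcode 0 1) else 0) + (if bit n 1 then wv (pcode 1 2) else 0) +
    (if bit n 2 then wv (pcode 2 3) else 0) + (if bit n 3 then wv (pcode 3 4) else 0)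
  have bit_add : ∀ (n m : W4) (k : Fin 4), bit (wadd n m) k = (bit n k ^^ bit m k) := by decide +kernel
  have bite : ∀ (n m : W4) (k : Fin 4) (x : V), (if bit (wadd n m) k then x else 0) =
      (if bit n k then x else 0) + (if bit m k then x else 0) := fun n m k x => by
    rw [bit_add]
    cases bit n k <;> cases bit m k <;> simp [S.two]
  have Ψadd : ∀ n m, Ψ (wadd n m) = Ψ n + Ψ m := fun n m => by
    show _ = _
    have h0 := bite n m 0 (wv (pcode 0 1))
    have h1 := bite n m 1 (wv (pcode 1 2))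
    have h2 := bite n m 2 (wv (pcode 2 3))
    have h3 := bite n m 3 (wv (pcode 3 4))
    simp only [Fin.val_zero, Fin.val_one, Fin.val_two, show ((3 : Fin 4) : ℕ) = 3 from rfl] at h0 h1 h2 h3
    simp only [Ψ, h0, h1, h2, h3]
    abel
  have e12 := hd 1 2 (by decide)
  have e23 := hd 2 3 (by decide)
  have e34 := hd 3 4 (by decide)
  have e01 := hd 0 1 (by decide)
  rw [d0, zero_add] at e01
  have bb : ∀ (k : Fin 4), bit (pcode 0 1) k = decide (k = 0) ∧ bit (pcode 1 2) k = decide (k = 1) ∧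
      bit (pcode 2 3) k = decide (k = 2) ∧ bit (pcode 3 4) k = decide (k = 3) ∧ bit (0 : W4) k = false := by
    decide +kernel
  obtain ⟨a0, b0, c0, g0, z0⟩ := bb 0
  obtain ⟨a1, b1, c1, g1, z1⟩ := bb 1
  obtain ⟨a2, b2, c2, g2, z2⟩ := bb 2
  obtain ⟨a3, b3, c3, g3, z3⟩ := bb 3
  simp only [Fin.val_zero, Fin.val_one, Fin.val_two, show ((3 : Fin 4) : ℕ) = 3 from rfl] at a0 b0 c0 g0 z0 a1 b1 c1 g1 z1 a2 b2 c2 g2 z2 a3 b3 c3 g3 z3
  have Ψ0 : Ψ 0 = 0 := by simp only [Ψ]; rw [z0, z1, z2, z3]; simp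
  have P01 : Ψ (pcode 0 1) = wv (pcode 0 1) := by simp only [Ψ]; rw [a0, a1, a2, a3]; simp
  have P12 : Ψ (pcode 1 2) = wv (pcode 1 2) := by simp only [Ψ]; rw [b0, b1, b2, b3]; simp
  have P23 : Ψ (pcode 2 3) = wv (pcode 2 3) := by simp only [Ψ]; rw [c0, c1, c2, c3]; simp
  have P34 : Ψ (pcode 3 4) = wv (pcode 3 4) := by simp only [Ψ]; rw [g0, g1, g2, g3]; simp
  have Ψd : ∀ a, Ψ (pcode 0 a) = d a := by
    intro a
    fin_cases a
    · show Ψ (pcode 0 0) = d 0
      rw [d0, show pcode 0 0 = 0 by decide +kernel, Ψ0]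
    · show Ψ (pcode 0 1) = d 1
      rw [P01, e01]
    · show Ψ (pcode 0 2) = d 2
      rw [show pcode 0 2 = wadd (pcode 0 1) (pcode 1 2) by decide +kernel, Ψadd, P01, P12, e01, e12,
        ← add_assoc, S.two, zero_add]
    · show Ψ (pcode 0 3) = d 3
      rw [show pcode 0 3 = wadd (wadd (pcode 0 1) (pcode 1 2)) (pcode 2 3) by decide +kernel, Ψadd, Ψadd, P01,
        P12, P23, e01, e12, e23,
        show d 1 + (d 1 + d 2) + (d 2 + d 3) = (d 1 + d 1) + (d 2 + d 2) + d 3 by abel, S.two, S.two]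
      simp
    · show Ψ (pcode 0 4) = d 4
      rw [show pcode 0 4 = wadd (wadd (wadd (pcode 0 1) (pcode 1 2)) (pcode 2 3)) (pcode 3 4) by decide +kernel,
        Ψadd, Ψadd, Ψadd, P01, P12, P23, P34, e01, e12, e23, e34,
        show d 1 + (d 1 + d 2) + (d 2 + d 3) + (d 3 + d 4) =
          (d 1 + d 1) + (d 2 + d 2) + (d 3 + d 3) + d 4 by abel, S.two, S.two]
      simp [S.two]
    · show Ψ (pcode 0 5) = d 5
      rw [show pcode 0 5 = wadd (pcode 1 2) (pcode 3 4) by decide +kernel, Ψadd, P12, P34, e12, e34]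
      rw [d0, zero_add] at hsum
      exact (add_right_cancel ((show d 1 + d 2 + (d 3 + d 4) + d 5 = 0 by rw [← hsum]; abel).trans
        (S.two (d 5)).symm))
  have hΨ : ∀ y, wv y = Ψ y := by
    intro y
    by_cases hy : y = 0
    · rw [hy, wv0, Ψ0]
    obtain ⟨a, b, hab, rfl⟩ := pcode_surj y hy
    rw [hd a b hab, ← Ψd, ← Ψd, ← Ψadd, show pcode 0 a = pcode a 0 from wadd_comm _ _, pcode_triangle]
  have wadd' : ∀ a b, wv (wadd a b) = wv a + wv b := fun a b => by rw [hΨ, hΨ, hΨ, Ψadd]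
  -- the map
  let Φ : Vm → V := fun u => wv u.1 + X (wv u.2)
  have Φadd : ∀ u u', Φ (vadd u u') = Φ u + Φ u' := fun u u' => by
    simp only [Φ, vadd, wadd', map_add]; abel
  have Φslice : ∀ j y, Φ (slice j y) = pw X j (wv y) := by
    intro j y
    fin_cases j
    · simp [Φ, slice, pw, wv0]
    · simp [Φ, slice, pw, wv0]
    · show wv y + X (wv y) = X (X (wv y))
      exact add_right_cancel ((M.moved (wv y)).trans (S.two (X (X (wv y)))).symm)
  -- equivariance
  let Good : P3 × P6 → Prop := fun p => ∀ u, A p (Φ u) = Φ (SymSixCore.act p u)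
  have good_of : ∀ p : P3 × P6, (∀ j y, A p (pw X j (wv y)) = pw X (p.1 j) (wv (wact p.2 y))) → Good p := by
    intro p hp u
    rw [split_slice u, Φadd, map_add, act_add, Φadd, Φslice, Φslice, hp, hp,
      show SymSixCore.act p (slice 0 u.1) = slice (p.1 0) (wact p.2 u.1) from act_slice p.1 p.2 0 u.1,
      show SymSixCore.act p (slice 1 u.2) = slice (p.1 1) (wact p.2 u.2) from act_slice p.1 p.2 1 u.2, Φslice, Φslice]
  have good_mul : ∀ h k, h * z = z * h → k * z = z * k → Good (π h) → Good (π k) → Good (π (h * k)) := by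
    intro h k hh hk g1 g2 u
    rw [S.C.π_mul h k hh hk, S.A_mul hh hk, g2, g1, act_mul]
  have good_six : ∀ τ, Perm.sign τ = 1 → Good (1, τ) := fun τ hτ => good_of _ fun j y => by
    rw [N.pw_comm _ (fun u => S.cx hτ u), wvact τ y hτ]; rfl
  have good_x : Good (x3, 1) := good_of _ fun j y => by
    rw [wact_one]
    fin_cases j <;> simp [pw, x0, x1, x2, hX3, ← hX]
  have good_gen : ∀ (σ : P3) (τ₀ : P6), (σ = 1 ∨ σ = t0) → (τ₀ = 1 ∨ τ₀ = tau0) → ∀ h, h * z = z * h →
      π h = (σ, τ₀) → A (π h) w₀ = w₀ → Good (π h) := by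
    intro σ τ₁ hσ hτ₁ h hh e hw'
    have hτ1 : wact τ₁ 1 = 1 := by rcases hτ₁ with rfl | rfl; exacts [wact_one 1, hτ01]
    have hwv : ∀ y, A (π h) (wv y) = wv (wact τ₁ y) := by
      intro y
      by_cases hy : y = 0
      · rw [hy, wv0, map_zero, wact_zero, wv0]
      obtain ⟨ρ, hρ, rfl⟩ := transitive y hy
      rw [wv1 ρ hρ, hnorm σ τ₁ h hh e ρ hρ, hw', ← wv1 _ (by rw [map_mul, map_mul, map_inv, hρ, mul_one, mul_inv_cancel])]
      congr 1
      rw [wact_mul, wact_mul]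
      congr 2
      conv_lhs => rw [← hτ1]
      rw [← wact_mul, inv_mul_cancel, wact_one]
    refine good_of _ fun j y => ?_
    rw [e]
    show A (σ, τ₁) (pw X j (wv y)) = pw X (σ j) (wv (wact τ₁ y))
    rw [← e, ← hwv]
    have hc := hXcomm σ τ₁ h hh e
    rcases hσ with rfl | rfl
    · simp only [one_mul, mul_one, inv_one, ← hX] at hc
      fin_cases j <;> simp [pw, hc]
    · have hc' : ∀ u, A (π h) (X u) = X (X (A (π h) u)) := fun u => by
        rw [hc, tx, hX, ← S.A_ev sign_x3.1 o6 sign_x3.1 o6, mul_one]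
      fin_cases j
      · simp [pw, t00]
      · show A (π h) (X (wv y)) = pw X (t0 1) _
        rw [hc', show t0 1 = 2 by decide]; rfl
      · show A (π h) (X (X (wv y))) = pw X (t0 2) _
        rw [hc', hc', hX3, show t0 2 = 1 by decide]; rfl
  have good0 : Good (π h0) := good_gen t0 τ₀ (Or.inr rfl) hτ₀ h0 hh0 e0 hodd
  have good_ev : ∀ σ τ, Perm.sign σ = 1 → Perm.sign τ = 1 → Good (σ, τ) := by
    intro σ τ hσ hτ
    have gx : ∀ {a b : P3}, Perm.sign a = 1 → Perm.sign b = 1 → Good (a, 1) → Good (b, 1) → Good (a * b, 1) := by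
      intro a b ha hb g1 g2 u
      have e := S.A_ev ha o6 hb o6 (Φ u)
      rw [mul_one] at e
      rw [e, g2, g1, ← act_mul, Prod.mk_mul_mk, mul_one]
    have gσ : Good (σ, 1) := by
      rcases sigma_even σ hσ with rfl | rfl | rfl
      · intro u; rw [show ((1 : P3), (1 : P6)) = 1 from rfl, S.A_one, act_one]
      · exact good_x
      · exact gx sign_x3.1 sign_x3.1 good_x good_x
    intro u
    have e := S.A_ev hσ o6 o3 hτ (Φ u)
    rw [mul_one, one_mul] at e
    rw [e, good_six τ hτ, gσ, ← act_mul, Prod.mk_mul_mk, mul_one, one_mul]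
  have good_all : ∀ h, h * z = z * h → Good (π h) := by
    have even3 : ∀ h, h * z = z * h → Perm.sign (π h).1 = 1 → Good (π h) := by
      intro h hh hs
      rcases Int.units_eq_one_or (Perm.sign (π h).2) with e | e
      · exact good_ev _ _ hs e
      -- an element inducing the transposition of the second factor
      obtain ⟨k, hk, ek⟩ := S.C.ev ((π h).1⁻¹) (tau0 * (π h).2⁻¹) (by rw [map_inv, hs, inv_one])
        (by rw [map_mul, map_inv, e, sτ0]; rfl)
      have hkh : π (k * h) = (1, tau0) := by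
        rw [S.C.π_mul k h hk hh, ek]; exact Prod.ext (by simp) (by simp)
      have hkz := mulz hk hh
      have hfix' : A (π (k * h)) w₀ = w₀ := by
        obtain ⟨k0, hk0, h0e⟩ : ∃ k0, k0 = w₀ ∧ True := ⟨w₀, rfl, trivial⟩
        clear h0e hk0 k0
        have hc : ∀ u, A (π (k * h)) (X u) = X (A (π (k * h)) u) := fun u => by
          rw [hXcomm 1 tau0 _ hkz hkh]; simp [hX]
        have hsq : A (π (k * h)) (A (π (k * h)) w) = w := by
          rw [← S.A_mul hkz hkz, hkh, Prod.mk_mul_mk, τ2, mul_one]; exact S.A_one w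
        have hwfix : A (π (k * h)) w = w := by
          rcases hmap 1 tau0 _ hkz hkh (Or.inr rfl) with f | f | f
          · exact f
          · rw [f, hc, f] at hsq
            exact absurd (by
              have h4 := congrArg X hsq; rw [hX3] at h4; exact h4.symm) (hXne w hw)
          · rw [f, hc, hc, f, hX3] at hsq
            exact absurd hsq (hXne w hw)
        rcases hline w₀ hfix₀ with f | f | f | f
        · exact absurd f hw₀
        all_goals rw [f]
        exacts [hwfix, by rw [hc, hwfix], by rw [hc, hc, hwfix]]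
      have g1 := good_gen 1 tau0 (Or.inl rfl) (Or.inr rfl) _ hkz hkh hfix'
      have hki := invz hk
      have g2 : Good (π k⁻¹) := by
        rw [S.C.π_inv hk, ek]
        exact good_ev _ _ (by simp [map_inv, hs]) (by simp [map_mul, map_inv, e, sτ0])
      have := good_mul _ _ hki hkz g2 g1
      rwa [inv_mul_cancel_left] at this
    intro h hh
    rcases Int.units_eq_one_or (Perm.sign (π h).1) with e | e
    · exact even3 h hh e
    · have h1 := mulz (invz hh0) hh
      have := good_mul h0 (h0⁻¹ * h) hh0 h1 good0 (even3 _ h1 (by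
        rw [S.C.π_mul _ _ (invz hh0) hh, S.C.π_inv hh0, e0, Prod.fst_mul, Prod.fst_inv, map_mul, map_inv, e, st0]
        rfl))
      rwa [mul_inv_cancel_left] at this
  -- bijective
  have hinj0 : ∀ u, Φ u = 0 → u = (0, 0) := by
    intro u hu
    by_contra hne
    obtain ⟨a, b⟩ := u
    replace hu : wv a + X (wv b) = 0 := hu
    have hX0 : ∀ y, X (wv y) = 0 → y = 0 := fun y h => by
      by_contra hy; exact wvne y hy (by rw [← hX3 (wv y), h, map_zero, map_zero])
    by_cases ha : a = 0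
    · subst ha
      rw [wv0, zero_add] at hu
      exact hne (by rw [hX0 b hu])
    by_cases hb : b = 0
    · subst hb
      rw [wv0, map_zero, add_zero] at hu
      exact wvne a ha hu
    by_cases hab : a = b
    · subst hab
      have e := (M.moved (wv a))
      rw [hu, zero_add] at e
      exact wvne a ha (by rw [← hX3 (wv a), e, map_zero])
    obtain ⟨τ, hτ, hta, htb⟩ := moving a b ha hb hab
    have h2 := congrArg (A (1, τ)) hu
    rw [map_zero, map_add, wvact τ a hτ, ← S.cx hτ, wvact τ b hτ, hta, ← hu] at h2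
    have h3 : wv (wact τ b) = wv b := by
      have := congrArg (fun t => X (X t)) (add_left_cancel h2)
      rw [hX3, hX3] at this
      exact this
    have h4 : wv (wadd (wact τ b) b) = 0 := by rw [wadd', h3, S.two]
    by_contra
    exact wvne _ (fun h => htb ((wadd_eq_zero _ _).1 h)) h4
  haveI : Finite V := Nat.finite_of_card_ne_zero (by rw [S.card]; norm_num)
  have hinj : Function.Injective Φ := fun u u' h => by
    have e := hinj0 (vadd u u') (by rw [Φadd, h, S.two])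
    obtain ⟨a, b⟩ := u
    obtain ⟨a', b'⟩ := u'
    simp only [vadd, Prod.mk.injEq] at e
    rw [(wadd_eq_zero _ _).1 e.1, (wadd_eq_zero _ _).1 e.2]
  have hbij : Function.Bijective Φ := hinj.bijective_of_nat_card_le (by
    rw [S.card]; simp)
  -- the forms
  have invB : ∀ (f : V →+ V), (∀ τ, Perm.sign τ = 1 → ∀ u, f (A (1, τ) u) = A (1, τ) (f u)) →
      ∀ y y', B (wv y) (f (wv y')) = (B (wv 1) (f (wv (pcode 1 2))) && beta y y') := by
    intro f hf
    set k := B (wv 1) (f (wv (pcode 1 2))) with hk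
    have tr : ∀ τ, Perm.sign τ = 1 → ∀ y y', B (wv (wact τ y)) (f (wv (wact τ y'))) = B (wv y) (f (wv y')) := by
      intro τ hτ y y'
      obtain ⟨h, hh, e⟩ := S.C.ev 1 τ o3 hτ
      rw [← wvact τ y hτ, ← wvact τ y' hτ, hf τ hτ, ← e, S.B_act hh]
    have add' : ∀ y a b, B (wv y) (f (wv (wadd a b))) = (B (wv y) (f (wv a)) ^^ B (wv y) (f (wv b))) :=
      fun y a b => by rw [wadd', map_add, S.B_add']
    have meet : ∀ y y', beta y y' = true → B (wv y) (f (wv y')) = k := by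
      intro y y' h
      obtain ⟨τ, hτ, rfl, rfl⟩ := orbit_meet y y' h
      exact tr τ hτ _ _
    obtain ⟨-, -, -, -, -, b12, b23, e13, b13, e02, b02, -⟩ := pcode_facts
    have disj1 : B (wv 1) (f (wv (pcode 2 3))) = false := by
      have h := add' 1 (pcode 1 2) (pcode 2 3)
      rw [← e13, meet _ _ b13, ← hk] at h
      revert h
      cases k <;> simp
    have self1 : B (wv 1) (f (wv 1)) = false := by
      have h := add' 1 (pcode 0 2) (pcode 1 2)
      rw [e02, meet _ _ b02, meet _ _ b12] at h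
      simpa using h
    intro y y'
    by_cases hy : y = 0
    · subst hy; rw [wv0, S.B_zero, (beta_self y').2.1, Bool.and_false]
    by_cases hy' : y' = 0
    · subst hy'; rw [wv0, map_zero, S.B_symm, S.B_zero, (beta_self y).2.2, Bool.and_false]
    cases hb : beta y y'
    · rw [Bool.and_false]
      by_cases hyy : y = y'
      · subst hyy
        obtain ⟨τ, hτ, rfl⟩ := transitive y hy
        rw [tr τ hτ]; exact self1
      · obtain ⟨τ, hτ, rfl, rfl⟩ := orbit_disj y y' hy hy' hyy hb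
        rw [tr τ hτ]; exact disj1
    · rw [Bool.and_true]; exact meet y y' hb
  have hc : ∀ y, y ≠ 0 → q (wv y) = q (wv 1) := by
    intro y hy
    obtain ⟨τ, hτ, rfl⟩ := transitive y hy
    obtain ⟨h, hh, e⟩ := S.C.ev 1 τ o3 hτ
    rw [← wvact τ 1 hτ, ← e, S.q_act hh]
  have hid := invB (AddMonoidHom.id V) (fun _ _ _ => rfl)
  simp only [AddMonoidHom.id_apply] at hid
  obtain ⟨-, -, -, -, e45, b12, b23, e13, -⟩ := pcode_facts
  have q1 : q (wv 1) = false := by
    have h := S.q_add (wv 1) (wv (pcode 2 3))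
    rw [← wadd', ← e45, hc _ (by decide +kernel), hc (pcode 2 3) (by decide +kernel), hid, b23, Bool.and_false] at h
    revert h
    cases q (wv 1) <;> simp
  have qwv : ∀ y, q (wv y) = false := fun y => by
    by_cases hy : y = 0
    · rw [hy, wv0, S.q_zero]
    · rw [hc y hy, q1]
  have bW : ∀ y y', B (wv y) (wv y') = false := by
    intro y y'
    have h := S.q_add (wv y) (wv y')
    rw [← wadd', qwv, qwv, qwv] at h
    simpa using h.symm
  obtain ⟨kx, hkx, ekx⟩ := S.C.ev x3 1 sign_x3.1 o6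
  have qX : ∀ u, q (X u) = q u := fun u => by rw [hX, ← ekx, S.q_act hkx]
  have hbX := invB X (fun τ hτ u => S.cx hτ u)
  have hk1 : B (wv 1) (X (wv (pcode 1 2))) = true := by
    obtain ⟨b, hb⟩ := S.nondeg (wvne 1 (by decide))
    obtain ⟨⟨b1, b2⟩, rfl⟩ := hbij.2 b
    simp only [Φ] at hb
    rw [S.B_add', bW, hbX] at hb
    revert hb
    cases B (wv 1) (X (wv (pcode 1 2))) <;> simp
  have hq : ∀ u, q (Φ u) = qf u := by
    intro u
    simp only [Φ]
    rw [S.q_add, qwv, qX, qwv, hbX, hk1]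
    simp [qf]
  have hB : ∀ u u', B (Φ u) (Φ u') = bf u u' := by
    intro u u'
    have h := S.q_add (Φ u) (Φ u')
    rw [← Φadd, hq, hq, hq, qf_add] at h
    revert h
    cases qf u <;> cases qf u' <;> cases bf u u' <;> cases B (Φ u) (Φ u') <;> simp
  let e := Equiv.ofBijective Φ hbij
  have he : ∀ p, Φ (e.symm (v p)) = v p := fun p => e.apply_symm_apply _
  refine ⟨fun p => e.symm (v p), S.C, fun p r hp hr => ?_, fun p hp => ?_, fun u => ?_, fun p hp => ?_,
    fun p r hp hr => ?_, fun h p hh hp => ?_⟩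
  · exact hinj (by rw [he, Φadd, he, he, S.v_mul p r hp hr])
  · rw [← S.v_zero p hp]
    refine ⟨fun h => ?_, fun h => hinj0 _ (by rw [he, h])⟩
    rw [← he p, h]
    simp [Φ, wv0]
  · obtain ⟨p, hp, hv⟩ := S.v_surj (Φ u)
    exact ⟨p, hp, hinj (by rw [he, hv])⟩
  · rw [S.sq p hp, ← he p, hq, he]
  · rw [S.comm p r hp hr, ← he p, ← he r, hB, he, he]
  · exact hinj (by rw [he, S.act h p hh hp, ← good_all h hh, he])

end Space

/-- Coordinates in the odd case. -/
theorem Core.exists_coords (C : Core z Q π) {g : G} (P : Pair Q z g) (hO : Odd3 z Q π g) :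
    ∃ (π' : G → P3 × P6) (vec : G → Vm), Coords z Q π' vec ∧ Odd3 z Q π' g := by
  obtain ⟨V, _, v, A, q, B, S⟩ := exists_space C
  obtain ⟨π', A', S', hO', -, w, hw, hfix, hline⟩ := S.exists_point P hO
  obtain ⟨vec, hvec⟩ := S'.exists_coords P hO' hw hfix hline
  exact ⟨π', vec, hvec, hO'⟩

end Cfsg.Agent.SymSixCore
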