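import Mathlib.GroupTheory.Perm.Cycle.Type
import Mathlib.Algebra.Group.Subgroup.Basic
import Mathlib.GroupTheory.Coset.Card
import Mathlib.Algebra.BigOperators.Fin
import Mathlib.Tactic.Abel
import Mathlib.Tactic.FinCases
import Mathlib.Tactic.IntervalCases
import Mathlib.Tactic.Linarith

/-!
An element of order five inverted by an involution `g` whose commutator space is totally singular cannot move a
space of order sixteen only.
-/

set_option autoImplicit false
set_option linter.style.haveILetI false
set_option linter.unusedSectionVars false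

namespace Cfsg.Agent.SymSixCore

universe u

variable {V : Type u} [AddCommGroup V]

theorem no_singular_inverting (q : V → Bool) (B : V → V → Bool) (f g : V →+ V) (htwo : ∀ w : V, w + w = 0)
    (hcard : Nat.card V = 256) (hf : ∀ w, f (f (f (f (f w)))) = w) (hg : ∀ w, g (g w) = w)
    (hfg : ∀ w, g (f w) = f (f (f (f (g w))))) (hqf : ∀ w, q (f w) = q w)
    (hBf : ∀ a b, B (f a) (f b) = B a b) (hq : ∀ a b, q (a + b) = (q a ^^ q b ^^ B a b))
    (hB : ∀ a b c, B a (b + c) = (B a b ^^ B a c)) (hBs : ∀ a b, B a b = B b a)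
    (hnd : ∀ a, a ≠ 0 → ∃ b, B a b = true) (hne : ∃ w, f w ≠ w) (hfix : ∃ w, w ≠ 0 ∧ f w = w)
    (hsing : ∀ w, q (g w + w) = false) : False := by
  classical
  haveI : Finite V := Nat.finite_of_card_ne_zero (by rw [hcard]; norm_num)
  haveI : Fintype V := Fintype.ofFinite V
  haveI : Fact (Nat.Prime 5) := ⟨by decide⟩
  let pe : V →+ V := AddMonoidHom.mk' (fun w => w + f w + f (f w) + f (f (f w)) + f (f (f (f w)))) fun a b => by
    simp only [map_add]; abel
  have hfp : ∀ w, f (pe w) = pe w := fun w => by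
    show f (w + f w + f (f w) + f (f (f w)) + f (f (f (f w)))) = _
    simp only [map_add, hf]
    show _ = w + f w + f (f w) + f (f (f w)) + f (f (f (f w)))
    abel
  have hpfix : ∀ w, f w = w → pe w = w := fun w h => by
    show w + f w + f (f w) + f (f (f w)) + f (f (f (f w))) = w
    rw [h, h, h, h, htwo, zero_add, htwo, zero_add]
  let K := pe.ker
  have hpe : ∀ w, w + pe w ∈ K := fun w => by
    show pe (w + pe w) = 0
    rw [map_add, hpfix _ (hfp w), htwo]
  have hfK : ∀ w, w ∈ K → f w ∈ K := fun w h => by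
    show pe (f w) = 0
    have h' : f (pe w) = pe (f w) := by
      show f (w + f w + f (f w) + f (f (f w)) + f (f (f (f w)))) = _
      simp only [map_add]; rfl
    rw [← h', show pe w = 0 from h, map_zero]
  have hK0 : ∀ w, w ∈ K → f w = w → w = 0 := fun w h h' => (hpfix w h').symm.trans h
  -- the order of the moved space
  have hKne : ∃ w, w ∈ K ∧ w ≠ 0 := by
    obtain ⟨w, hw⟩ := hne
    refine ⟨_, hpe w, fun h => hw ?_⟩
    have e : pe w = w := add_left_cancel (h.trans (htwo w).symm)
    rw [← e, hfp]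
  have hd : Nat.card K ∣ 2 ^ 8 := (AddSubgroup.card_addSubgroup_dvd_card K).trans (by rw [hcard]; norm_num)
  have hlt : Nat.card K ≠ 256 := by
    intro h
    obtain ⟨w, hw0, hw⟩ := hfix
    have hall : K = ⊤ := AddSubgroup.eq_top_of_card_eq K (by rw [h, hcard])
    exact hw0 (hK0 w (by rw [hall]; trivial) hw)
  have hmod : Nat.card K % 5 = 1 := by
    let σ : Equiv.Perm K :=
      { toFun := fun w => ⟨f w, hfK _ w.2⟩
        invFun := fun w => ⟨f (f (f (f w))), hfK _ (hfK _ (hfK _ (hfK _ w.2)))⟩
        left_inv := fun w => Subtype.ext (hf w)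
        right_inv := fun w => Subtype.ext (hf w) }
    have hσ : σ ^ 5 ^ 1 = 1 := by
      refine Equiv.ext fun w => Subtype.ext ?_
      rw [pow_one]
      show f (f (f (f (f (w : V))))) = w
      exact hf w
    have h := Equiv.Perm.card_compl_support_modEq hσ
    have hs : σ.supportᶜ = {0} := by
      ext w
      simp only [Finset.mem_compl, Equiv.Perm.mem_support, not_not, Finset.mem_singleton]
      constructor
      · exact fun h => Subtype.ext (hK0 _ w.2 (congrArg Subtype.val h))
      · rintro rfl; exact Subtype.ext (map_zero f)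
    rw [hs, Finset.card_singleton, ← Nat.card_eq_fintype_card] at h
    exact h.symm
  have hK : Nat.card K = 16 := by
    obtain ⟨m, hm, e⟩ := (Nat.dvd_prime_pow Nat.prime_two).1 hd
    have h2 : 1 < Nat.card K := by
      obtain ⟨w, hw, hw0⟩ := hKne
      haveI : Nontrivial K := ⟨⟨⟨w, hw⟩, 0, fun h => hw0 (congrArg Subtype.val h)⟩⟩
      exact Finite.one_lt_card
    interval_cases m <;> omega
  -- the involution on it
  have hgK : ∀ w, w ∈ K → g w ∈ K := fun w h => by
    have e : g (pe w) = pe (g w) := by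
      show g (w + f w + f (f w) + f (f (f w)) + f (f (f (f w)))) = _
      simp only [map_add, hfg, hf]
      show _ = g w + f (g w) + f (f (g w)) + f (f (f (g w))) + f (f (f (f (g w))))
      abel
    show pe (g w) = 0
    rw [← e, show pe w = 0 from h, map_zero]
  let D : K →+ K := AddMonoidHom.mk' (fun w => ⟨g w + w, K.add_mem (hgK _ w.2) w.2⟩) fun a b => Subtype.ext (by
    show g ((a : V) + b) + ((a : V) + b) = g a + a + (g b + b)
    rw [map_add]; abel)
  let L := D.ker
  have hL : ∀ w : K, w ∈ L ↔ g (w : V) = w := fun w => by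
    show D w = 0 ↔ _
    rw [Subtype.ext_iff]
    show g (w : V) + w = 0 ↔ _
    exact ⟨fun h => add_right_cancel (h.trans (htwo (w : V)).symm), fun h => by rw [h, htwo]⟩
  have him : D.range ≤ L := by
    rintro _ ⟨w, rfl⟩
    rw [hL]
    show g (g (w : V) + w) = g (w : V) + w
    rw [map_add, hg, add_comm]
  have hcount : Nat.card L * Nat.card D.range = 16 := by
    rw [← hK, ← D.ker.card_mul_index, AddSubgroup.index_ker]
  have hle := AddSubgroup.card_le_of_le him
  let Fj : Fin 5 → V → V := fun j w => ![w, f w, f (f w), f (f (f w)), f (f (f (f w)))] j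
  have hF : ∀ j k w, Fj j (Fj k w) = Fj (j + k) w := by
    intro j k w
    fin_cases j <;> fin_cases k <;> simp [Fj, hf]
  have hgF : ∀ j w, g (Fj j w) = Fj (-j) (g w) := by
    intro j w
    fin_cases j <;> simp [Fj, hfg, hf]
  have hFK : ∀ j w, w ∈ K → Fj j w ∈ K := by
    intro j w h
    fin_cases j
    exacts [h, hfK _ h, hfK _ (hfK _ h), hfK _ (hfK _ (hfK _ h)), hfK _ (hfK _ (hfK _ (hfK _ h)))]
  have hFfix : ∀ j w, j ≠ 0 → Fj j w = w → f w = w := by
    intro j w hj h
    fin_cases j
    · exact absurd rfl hj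
    · exact h
    · replace h : f (f w) = w := h
      calc f w = f (f (f (f (f (f w))))) := (hf _).symm
        _ = w := by rw [h, h, h]
    · replace h : f (f (f w)) = w := h
      calc f w = f (f (f (f (f (f w))))) := (hf _).symm
        _ = w := by rw [h, h]
    · replace h : f (f (f (f w))) = w := h
      calc f w = f (f (f (f (f w)))) := by rw [h]
        _ = w := hf w
  let Φ : Fin 5 × {l : L // l ≠ 0} → {w : K // w ≠ 0} := fun p =>
    ⟨⟨Fj p.1 ((p.2.1 : K) : V), hFK _ _ (p.2.1 : K).2⟩, fun h => p.2.2 (by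
      have h' : Fj p.1 ((p.2.1 : K) : V) = 0 := congrArg Subtype.val h
      have h'' := congrArg (Fj (-p.1)) h'
      rw [hF, neg_add_cancel] at h''
      exact Subtype.ext (Subtype.ext (h''.trans (by generalize -p.1 = k; fin_cases k <;> simp [Fj]))))⟩
  have hΦ : Function.Injective Φ := by
    rintro ⟨j, ⟨⟨⟨l, hlK⟩, hlL⟩, hl0⟩⟩ ⟨j', ⟨⟨⟨l', hlK'⟩, hlL'⟩, hl0'⟩⟩ h
    have h' : Fj j l = Fj j' l' := congrArg (fun w => ((w.1 : K) : V)) h
    have el : l' = Fj (-j' + j) l := by
      have := congrArg (Fj (-j')) h'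
      rw [hF, hF, neg_add_cancel] at this
      exact this.symm
    have hl : g l = l := (hL ⟨l, hlK⟩).1 hlL
    have hl' : g l' = l' := (hL ⟨l', hlK'⟩).1 hlL'
    generalize -j' + j = m at el
    by_cases hm : m = 0
    · subst hm
      have ell : l' = l := el
      subst ell
      have e0 : Fj (-j' + j) l' = l' := by
        have := congrArg (Fj (-j')) h'
        rwa [hF, hF, neg_add_cancel] at this
      have ej : -j' + j = 0 := by
        by_contra hne'
        exact hl0 (Subtype.ext (Subtype.ext (hK0 _ hlK' (hFfix _ _ hne' e0))))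
      obtain rfl : j' = j := neg_add_eq_zero.1 ej
      rfl
    · exfalso
      rw [el, hgF, hl] at hl'
      have := congrArg (Fj m) hl'
      rw [hF, hF, add_neg_cancel] at this
      exact hl0 (Subtype.ext (Subtype.ext (hK0 _ hlK (hFfix (m + m) _
        ((by decide : ∀ m : Fin 5, m ≠ 0 → m + m ≠ 0) m hm) this.symm))))
  haveI : Fintype L := Fintype.ofFinite L
  haveI : Fintype K := Fintype.ofFinite K
  have hc1 : Nat.card {l : L // l ≠ 0} = Nat.card L - 1 := by
    rw [Nat.card_eq_fintype_card, Nat.card_eq_fintype_card, Fintype.card_subtype_compl, Fintype.card_subtype_eq]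
  have hc2 : Nat.card {w : K // w ≠ 0} = 15 := by
    rw [Nat.card_eq_fintype_card, Fintype.card_subtype_compl, Fintype.card_subtype_eq, ← Nat.card_eq_fintype_card,
      hK]
  have hle' := Nat.card_le_card_of_injective Φ hΦ
  rw [Nat.card_prod, Nat.card_fin, hc1, hc2] at hle'
  have hL4 : Nat.card L = 4 ∧ Nat.card D.range = 4 := by
    have hLd : Nat.card L ≤ 4 := by omega
    constructor <;> nlinarith
  have hbij : Function.Bijective Φ := hΦ.bijective_of_nat_card_le (by
    rw [Nat.card_prod, Nat.card_fin, hc1, hc2, hL4.1])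
  have hLim : D.range = L := AddSubgroup.eq_of_le_of_card_ge him (by rw [hL4.1, hL4.2])
  have hqF : ∀ j w, q (Fj j w) = q w := by
    intro j w
    fin_cases j <;> simp [Fj, hqf]
  have hq0 : q 0 = false := by simpa using hsing 0
  have hqK : ∀ w : K, q (w : V) = false := by
    intro w
    by_cases hw : w = 0
    · rw [hw]; exact hq0
    obtain ⟨⟨j, ⟨l, hl0⟩⟩, hjl⟩ := hbij.2 ⟨w, hw⟩
    have e : Fj j ((l : K) : V) = (w : V) := congrArg (fun w => ((w.1 : K) : V)) hjl
    rw [← e, hqF]
    obtain ⟨y, hy⟩ : (l : K) ∈ D.range := by rw [hLim]; exact l.2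
    rw [← hy]
    exact hsing _
  obtain ⟨w, hw, hw0⟩ := hKne
  obtain ⟨b, hb⟩ := hnd w hw0
  have h1 : B w (b + pe b) = false := by
    have := hq w (b + pe b)
    rw [hqK ⟨_, K.add_mem hw (hpe b)⟩, hqK ⟨w, hw⟩, hqK ⟨_, hpe b⟩] at this
    simpa using this.symm
  have hB0 : ∀ c, B 0 c = false := fun c => by
    have := hq 0 c
    rw [zero_add, hq0] at this
    revert this
    cases q c <;> cases B 0 c <;> simp
  have h2 : B w (pe b) = false := by
    have e : ∀ a, B (f a) (pe b) = B a (pe b) := fun a => by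
      conv_lhs => rw [← hfp b]
      exact hBf a (pe b)
    have hsum : B (pe w) (pe b) = B w (pe b) := by
      show B (w + f w + f (f w) + f (f (f w)) + f (f (f (f w)))) (pe b) = _
      have hl : ∀ a c, B (a + c) (pe b) = (B a (pe b) ^^ B c (pe b)) := fun a c => by
        rw [hBs, hB, hBs (pe b) a, hBs (pe b) c]
      simp only [hl, e]
      cases B w (pe b) <;> rfl
    rw [← hsum, show pe w = 0 from hw, hB0]
  rw [hB, hb, h2] at h1
  simp at h1

end Cfsg.Agent.SymSixCore
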