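import Mathlib.Algebra.Group.Hom.Defs
import Mathlib.Algebra.BigOperators.Fin
import Mathlib.SetTheory.Cardinal.Finite
import Mathlib.Data.Fintype.Pi
import Mathlib.Tactic.Abel
import Mathlib.Tactic.FinCases

/-!
An elementary group of order nine, normalised by an element of order four permuting its nontrivial characters
in orbits of length four, acting semilinearly on a space of order `256` with a field of order four acting.
-/

set_option autoImplicit false
set_option linter.style.haveILetI false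
set_option linter.unusedSectionVars false

namespace Cfsg.Agent.SymSixCore

universe u

variable {V : Type u} [AddCommGroup V]

/-- The hypotheses. -/
structure Nine (X T₁ T₂ J : V →+ V) : Prop where
  two : ∀ w : V, w + w = 0
  X3 : ∀ w, X (X (X w)) = w
  T₁3 : ∀ w, T₁ (T₁ (T₁ w)) = w
  T₂3 : ∀ w, T₂ (T₂ (T₂ w)) = w
  J4 : ∀ w, J (J (J (J w))) = w
  XT₁ : ∀ w, X (T₁ w) = T₁ (X w)
  XT₂ : ∀ w, X (T₂ w) = T₂ (X w)
  XJ : ∀ w, X (J w) = J (X w)
  TT : ∀ w, T₁ (T₂ w) = T₂ (T₁ w)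
  JT₁ : ∀ w, J (T₁ w) = T₂ (J w)
  JT₂ : ∀ w, J (T₂ w) = T₁ (T₁ (J w))
  card : Nat.card V = 256

/-- Multiplication by an element of the field with four elements. -/
def op (X : V →+ V) (c : Fin 4) (w : V) : V := ![0, w, X w, X (X w)] c

/-- Powers of `X`. -/
def pw (X : V →+ V) (k : Fin 3) (w : V) : V := ![w, X w, X (X w)] k

/-- The projection to the eigenspace of `T` with eigenvalue `X ^ k`. -/
def pr (X T : V →+ V) (k : Fin 3) (w : V) : V := w + pw X (-k) (T w) + pw X k (T (T w))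

theorem three_neg : (-(0 : Fin 3)) = 0 ∧ (-(1 : Fin 3)) = 2 ∧ (-(2 : Fin 3)) = 1 := by decide

namespace Nine

variable {X T₁ T₂ J : V →+ V} (N : Nine X T₁ T₂ J)
include N

theorem neg_eq (w : V) : -w = w := neg_eq_of_add_eq_zero_left (N.two w)

theorem three (w : V) : w + w + w = w := by rw [N.two, zero_add]

/-- The moved part of `X`. -/
theorem moved_add {a b : V} (ha : a + X a + X (X a) = 0) (hb : b + X b + X (X b) = 0) :
    a + b + X (a + b) + X (X (a + b)) = 0 := by
  rw [map_add, map_add, show a + b + (X a + X b) + (X (X a) + X (X b)) =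
    (a + X a + X (X a)) + (b + X b + X (X b)) by abel, ha, hb, add_zero]

theorem moved_map (T : V →+ V) (hT : ∀ w, X (T w) = T (X w)) {a : V} (ha : a + X a + X (X a) = 0) :
    T a + X (T a) + X (X (T a)) = 0 := by
  rw [hT, hT, ← map_add, ← map_add, ha, map_zero]

theorem moved_X {a : V} (ha : a + X a + X (X a) = 0) : X a + X (X a) + X (X (X a)) = 0 := by
  rw [← map_add, ← map_add, ha, map_zero]

theorem moved_pw (k : Fin 3) {a : V} (ha : a + X a + X (X a) = 0) :
    pw X k a + X (pw X k a) + X (X (pw X k a)) = 0 := by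
  fin_cases k
  exacts [ha, N.moved_X ha, N.moved_X (N.moved_X ha)]

theorem pw_comm (T : V →+ V) (hT : ∀ w, X (T w) = T (X w)) (k : Fin 3) (w : V) :
    T (pw X k w) = pw X k (T w) := by
  fin_cases k <;> simp [pw, hT]

theorem pw_add (k : Fin 3) (a b : V) : pw X k (a + b) = pw X k a + pw X k b := by
  fin_cases k <;> simp [pw]

theorem pw_pw (k l : Fin 3) (w : V) : pw X k (pw X l w) = pw X (k + l) w := by
  fin_cases k <;> fin_cases l <;> simp [pw, N.X3]

theorem pr_moved (T : V →+ V) (hT : ∀ w, X (T w) = T (X w)) (k : Fin 3) {a : V}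
    (ha : a + X a + X (X a) = 0) : pr X T k a + X (pr X T k a) + X (X (pr X T k a)) = 0 :=
  N.moved_add (N.moved_add ha (N.moved_pw _ (N.moved_map T hT ha)))
    (N.moved_pw _ (N.moved_map T hT (N.moved_map T hT ha)))

theorem pr_eigen (T : V →+ V) (hT : ∀ w, X (T w) = T (X w)) (hT3 : ∀ w, T (T (T w)) = w) (k : Fin 3) (w : V) :
    T (pr X T k w) = pw X k (pr X T k w) := by
  rw [pr, map_add, map_add, N.pw_add, N.pw_add, N.pw_comm T hT, N.pw_comm T hT, hT3, N.pw_pw, N.pw_pw,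
    add_neg_cancel, show k + k = -k by revert k; decide, show pw X 0 (T w) = T w from rfl]
  abel

theorem pr_comm (T S : V →+ V) (hS : ∀ w, X (S w) = S (X w)) (hTS : ∀ w, T (S w) = S (T w)) (k : Fin 3) (w : V) :
    pr X T k (S w) = S (pr X T k w) := by
  rw [pr, pr, map_add, map_add, N.pw_comm S hS, N.pw_comm S hS, hTS, hTS]

theorem pr_pw (T : V →+ V) (hT : ∀ w, X (T w) = T (X w)) (k l : Fin 3) (w : V) :
    pr X T k (pw X l w) = pw X l (pr X T k w) := by
  rw [pr, pr, N.pw_add, N.pw_add, N.pw_comm T hT, N.pw_comm T hT, N.pw_pw, N.pw_pw, N.pw_pw, N.pw_pw,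
    add_comm (-k) l, add_comm k l]

/-- The projection of an eigenvector. -/
theorem pr_of_eigen (T : V →+ V) (hT : ∀ w, X (T w) = T (X w)) {w : V} (hw : w + X w + X (X w) = 0) (k l : Fin 3)
    (he : T w = pw X l w) : pr X T k w = if k = l then w else 0 := by
  rw [pr, he, N.pw_comm T hT, he, N.pw_pw, N.pw_pw, N.pw_pw]
  by_cases h : k = l
  · subst h
    rw [if_pos rfl, neg_add_cancel, (by decide : ∀ k : Fin 3, k + k + k = 0) k]
    exact N.three w
  · rw [if_neg h]
    rcases (by decide : ∀ k l : Fin 3, k ≠ l →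
      (-k + l = 1 ∧ k + l + l = 2) ∨ (-k + l = 2 ∧ k + l + l = 1)) k l h with ⟨e1, e2⟩ | ⟨e1, e2⟩ <;> rw [e1, e2]
    · exact hw
    · rw [add_right_comm]; exact hw

theorem pr_sum (T : V →+ V) (hT : ∀ w, X (T w) = T (X w)) {w : V} (hw : w + X w + X (X w) = 0) :
    pr X T 0 w + pr X T 1 w + pr X T 2 w = w := by
  have h1 := N.moved_map T hT hw
  have h2 := N.moved_map T hT h1
  calc pr X T 0 w + pr X T 1 w + pr X T 2 w
      = (w + w + w) + (T w + X (T w) + X (X (T w))) + (T (T w) + X (T (T w)) + X (X (T (T w)))) := by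
        simp only [pr, three_neg.1, three_neg.2.1, three_neg.2.2]
        show (w + T w + T (T w)) + (w + X (X (T w)) + X (T (T w))) + (w + X (T w) + X (X (T (T w)))) = _
        abel
    _ = w := by rw [h1, h2, N.three, add_zero, add_zero]

/-- A common eigenvector. -/
theorem exists_eigen {w : V} (hw : w + X w + X (X w) = 0) (hne : T₁ w ≠ w ∨ T₂ w ≠ w) :
    ∃ e k l, e + X e + X (X e) = 0 ∧ e ≠ 0 ∧ T₁ e = pw X k e ∧ T₂ e = pw X l e ∧ (k ≠ 0 ∨ l ≠ 0) := by
  by_contra hcon
  have hall : ∀ k l : Fin 3, (k ≠ 0 ∨ l ≠ 0) → pr X T₁ k (pr X T₂ l w) = 0 := by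
    intro k l hkl
    by_contra h
    have hm := N.pr_moved T₂ N.XT₂ l hw
    refine hcon ⟨_, k, l, N.pr_moved T₁ N.XT₁ k hm, h, N.pr_eigen T₁ N.XT₁ N.T₁3 k _, ?_, hkl⟩
    rw [← N.pr_comm T₁ T₂ N.XT₂ N.TT, N.pr_eigen T₂ N.XT₂ N.T₂3, N.pr_pw T₁ N.XT₁]
  have e : ∀ l, pr X T₂ l w = pr X T₁ 0 (pr X T₂ l w) := fun l => by
    have := N.pr_sum T₁ N.XT₁ (N.pr_moved T₂ N.XT₂ l hw)
    rwa [hall 1 l (Or.inl (by decide)), hall 2 l (Or.inl (by decide)), add_zero, add_zero, eq_comm] at this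
  have e0 : w = pr X T₂ 0 w := by
    have := N.pr_sum T₂ N.XT₂ hw
    rwa [e 1, e 2, hall 0 1 (Or.inr (by decide)), hall 0 2 (Or.inr (by decide)), add_zero, add_zero,
      eq_comm] at this
  have h2 : T₂ w = w := by
    conv_lhs => rw [e0]
    rw [N.pr_eigen T₂ N.XT₂ N.T₂3 0 w, ← e0]
    rfl
  have h1 : T₁ w = w := by
    have e1 : w = pr X T₁ 0 w := by
      have := e 0
      rwa [← e0] at this
    conv_lhs => rw [e1]
    rw [N.pr_eigen T₁ N.XT₁ N.T₁3 0 w, ← e1]
    rfl
  exact hne.elim (fun h => h h1) fun h => h h2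

theorem J_eigen {e : V} {k l : Fin 3} (h1 : T₁ e = pw X k e) (h2 : T₂ e = pw X l e) :
    T₁ (J e) = pw X (-l) (J e) ∧ T₂ (J e) = pw X k (J e) := by
  constructor
  · have : T₁ (T₁ (J (T₂ (T₂ e)))) = pw X l (pw X l (T₁ (T₁ (J e)))) := by
      rw [h2, N.pw_comm T₂ N.XT₂, h2, N.pw_comm J N.XJ, N.pw_comm J N.XJ, N.pw_comm T₁ N.XT₁,
        N.pw_comm T₁ N.XT₁, N.pw_comm T₁ N.XT₁, N.pw_comm T₁ N.XT₁]
    rw [N.JT₂, N.JT₂] at this
    rw [N.T₁3, N.pw_pw] at this
    have h' : T₁ (T₁ (J e)) = pw X l (J e) := by rw [← N.JT₂, h2, N.pw_comm J N.XJ]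
    calc T₁ (J e) = T₁ (T₁ (T₁ (T₁ (J e)))) := by rw [N.T₁3]
      _ = pw X (-l) (J e) := by
        rw [h', N.pw_comm T₁ N.XT₁, N.pw_comm T₁ N.XT₁, h', N.pw_pw, (by decide : ∀ l : Fin 3, l + l = -l) l]
  · rw [← N.JT₁, h1, N.pw_comm J N.XJ]

end Nine

/-- The consequences of faithful action on the moved part. -/
structure Monomial (X T₁ T₂ J : V →+ V) : Prop where
  moved : ∀ w, w + X w + X (X w) = 0
  free : ∀ w, T₁ w = w → T₂ w = w → w = 0
  lineJ : ∃ n, n ≠ 0 ∧ J n = n ∧ ∀ w, J w = w → w = 0 ∨ w = n ∨ w = X n ∨ w = X (X n)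
  cardJJ : Nat.card {w // J (J w) = w} = 16

theorem Nine.monomial {X T₁ T₂ J : V →+ V} (N : Nine X T₁ T₂ J) {w₀ : V} (hw₀ : w₀ + X w₀ + X (X w₀) = 0)
    (hne : T₁ w₀ ≠ w₀ ∨ T₂ w₀ ≠ w₀) : Monomial X T₁ T₂ J := by
  classical
  haveI : Finite V := Nat.finite_of_card_ne_zero (by rw [N.card]; norm_num)
  obtain ⟨e, k, l, hm, he0, h1, h2, hkl⟩ := N.exists_eigen hw₀ hne
  let E : Fin 4 → V := ![e, J e, J (J e), J (J (J e))]
  let ch : Fin 4 → Fin 3 × Fin 3 := ![(k, l), (-l, k), (-k, -l), (l, -k)]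
  have hE1 := N.J_eigen h1 h2
  have hE2 := N.J_eigen hE1.1 hE1.2
  have hE3 := N.J_eigen hE2.1 hE2.2
  have heig : ∀ i, T₁ (E i) = pw X (ch i).1 (E i) ∧ T₂ (E i) = pw X (ch i).2 (E i) := by
    intro i
    fin_cases i
    · exact ⟨h1, h2⟩
    · exact hE1
    · exact hE2
    · refine ⟨?_, ?_⟩
      · simpa [E, ch] using hE3.1
      · simpa [E, ch] using hE3.2
  have hmE : ∀ i, E i + X (E i) + X (X (E i)) = 0 := by
    have m1 := N.moved_map J N.XJ hm
    have m2 := N.moved_map J N.XJ m1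
    intro i
    fin_cases i
    exacts [hm, m1, m2, N.moved_map J N.XJ m2]
  have hE0 : ∀ i, E i ≠ 0 := by
    have jinj : ∀ w, J w = 0 → w = 0 := fun w h => by rw [← N.J4 w, h, map_zero, map_zero, map_zero]
    intro i
    fin_cases i
    exacts [he0, fun h => he0 (jinj _ h), fun h => he0 (jinj _ (jinj _ h)),
      fun h => he0 (jinj _ (jinj _ (jinj _ h)))]
  have hch : ∀ k l : Fin 3, (k ≠ 0 ∨ l ≠ 0) →
      Function.Injective (![(k, l), (-l, k), (-k, -l), (l, -k)] : Fin 4 → Fin 3 × Fin 3) := by decide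
  have hne' : ∀ k l : Fin 3, (k ≠ 0 ∨ l ≠ 0) →
      ∀ i : Fin 4, ((![(k, l), (-l, k), (-k, -l), (l, -k)] : Fin 4 → Fin 3 × Fin 3) i) ≠ (0, 0) := by decide
  let P : Fin 4 → V →+ V := fun i => AddMonoidHom.mk' (fun w => pr X T₁ (ch i).1 (pr X T₂ (ch i).2 w)) fun a b => by
    simp only [pr, map_add, N.pw_add]; abel
  have hP : ∀ (i j : Fin 4) c, P i (op X c (E j)) = if i = j then op X c (E j) else 0 := by
    intro i j c
    have hmc : op X c (E j) + X (op X c (E j)) + X (X (op X c (E j))) = 0 := by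
      fin_cases c
      · simp [op]
      exacts [hmE j, N.moved_X (hmE j), N.moved_X (N.moved_X (hmE j))]
    have he : ∀ T : V →+ V, (∀ w, X (T w) = T (X w)) → ∀ m, T (E j) = pw X m (E j) →
        T (op X c (E j)) = pw X m (op X c (E j)) := by
      intro T hT m hm'
      have hpx : ∀ w, X (pw X m w) = pw X m (X w) := fun w => by fin_cases m <;> simp [pw]
      fin_cases c
      · fin_cases m <;> simp [op, pw]
      · exact hm'
      · show T (X (E j)) = pw X m (X (E j))
        rw [← hT, hm', hpx]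
      · show T (X (X (E j))) = pw X m (X (X (E j)))
        rw [← hT, ← hT, hm', hpx, hpx]
    show pr X T₁ (ch i).1 (pr X T₂ (ch i).2 (op X c (E j))) = _
    rw [N.pr_of_eigen T₂ N.XT₂ hmc _ _ (he T₂ N.XT₂ _ (heig j).2)]
    by_cases hij : i = j
    · subst hij
      rw [if_pos rfl, if_pos rfl, N.pr_of_eigen T₁ N.XT₁ hmc _ _ (he T₁ N.XT₁ _ (heig i).1), if_pos rfl]
    rw [if_neg hij]
    split_ifs with h2'
    · rw [N.pr_of_eigen T₁ N.XT₁ hmc _ _ (he T₁ N.XT₁ _ (heig j).1),
        if_neg fun h1' => hij (hch k l hkl (Prod.ext h1' h2'))]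
    · simp [pr, pw]
      fin_cases i <;> simp [ch] <;> fin_cases k <;> fin_cases l <;> simp [pw]
  let Φ : (Fin 4 → Fin 4) → V := fun c => ∑ j, op X (c j) (E j)
  have hproj : ∀ c i, P i (Φ c) = op X (c i) (E i) := fun c i => by
    simp only [Φ, map_sum, hP]
    rw [Finset.sum_ite_eq Finset.univ i, if_pos (Finset.mem_univ _)]
  have hop : ∀ (i : Fin 4) (c d : Fin 4), op X c (E i) = op X d (E i) → c = d := by
    intro i c d h
    have h0 := hE0 i
    have hX : X (E i) ≠ E i := fun e' => h0 (by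
      have := hmE i; rwa [e', e', N.three] at this)
    have hXX : X (X (E i)) ≠ E i := fun e' => hX (by
      conv_lhs => rw [← e', N.X3])
    have hX2 : X (X (E i)) ≠ X (E i) := fun e' => hX (by
      have := congrArg X e'; rw [N.X3] at this; rw [← e']; exact this.symm)
    have hX0 : X (E i) ≠ 0 := fun e' => h0 (by rw [← N.X3 (E i), e', map_zero, map_zero])
    have hXX0 : X (X (E i)) ≠ 0 := fun e' => h0 (by rw [← N.X3 (E i), e', map_zero])
    fin_cases c <;> fin_cases d <;>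
      simp [op, h0, hX, hXX, hX2, hX0, hXX0, h0.symm, hX.symm, hXX.symm, hX2.symm, hX0.symm, hXX0.symm] at h ⊢
  have hinj : Function.Injective Φ := fun c d h => funext fun i => hop i _ _ (by rw [← hproj, ← hproj, h])
  have hbij : Function.Bijective Φ := (hinj.bijective_of_nat_card_le (by
    rw [N.card, Nat.card_fun, Nat.card_fin]; decide))
  have hJΦ : ∀ c, J (Φ c) = Φ ![c 3, c 0, c 1, c 2] := by
    intro c
    have hJo : ∀ (c : Fin 4) w, J (op X c w) = op X c (J w) := fun c w => by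
      fin_cases c <;> simp [op, N.XJ]
    simp only [Φ, Fin.sum_univ_four, map_add, hJo]
    show op X (c 0) (J e) + op X (c 1) (J (J e)) + op X (c 2) (J (J (J e))) +
      op X (c 3) (J (J (J (J e)))) = op X (c 3) e + op X (c 0) (J e) + op X (c 1) (J (J e)) + op X (c 2) (J (J (J e)))
    rw [N.J4]; abel
  refine ⟨fun w => ?_, fun w hw1 hw2 => ?_, ⟨Φ fun _ => 1, ?_, ?_, fun w hw => ?_⟩, ?_⟩
  · obtain ⟨c, rfl⟩ := hbij.2 w
    have : ∀ i, op X (c i) (E i) + X (op X (c i) (E i)) + X (X (op X (c i) (E i))) = 0 := fun i => by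
      generalize c i = d
      fin_cases d
      · simp [op]
      exacts [hmE i, N.moved_X (hmE i), N.moved_X (N.moved_X (hmE i))]
    simp only [Φ, Fin.sum_univ_four]
    exact N.moved_add (N.moved_add (N.moved_add (this 0) (this 1)) (this 2)) (this 3)
  · obtain ⟨c, rfl⟩ := hbij.2 w
    have hall : ∀ i, op X (c i) (E i) = 0 := fun i => by
      have hmw : Φ c + X (Φ c) + X (X (Φ c)) = 0 := by
        have : ∀ i, op X (c i) (E i) + X (op X (c i) (E i)) + X (X (op X (c i) (E i))) = 0 := fun i => by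
          generalize c i = d
          fin_cases d
          · simp [op]
          exacts [hmE i, N.moved_X (hmE i), N.moved_X (N.moved_X (hmE i))]
        simp only [Φ, Fin.sum_univ_four]
        exact N.moved_add (N.moved_add (N.moved_add (this 0) (this 1)) (this 2)) (this 3)
      rw [← hproj]
      show pr X T₁ (ch i).1 (pr X T₂ (ch i).2 (Φ c)) = 0
      rw [N.pr_of_eigen T₂ N.XT₂ hmw _ 0 hw2]
      split_ifs with h2'
      · rw [N.pr_of_eigen T₁ N.XT₁ hmw _ 0 hw1, if_neg fun h1' => hne' k l hkl i (Prod.ext h1' h2')]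
      · simp [pr, pw]
        fin_cases i <;> simp [ch] <;> fin_cases k <;> fin_cases l <;> simp [pw]
    show ∑ j, op X (c j) (E j) = 0
    exact Finset.sum_eq_zero fun i _ => hall i
  · intro h
    have := hproj (fun _ => 1) 0
    rw [h, map_zero] at this
    exact hE0 0 this.symm
  · rw [hJΦ]
    congr 1
    funext i; fin_cases i <;> rfl
  · obtain ⟨c, rfl⟩ := hbij.2 w
    rw [hJΦ] at hw
    have h := hinj hw
    have h0 := congrFun h 0
    have h1' := congrFun h 1
    have h2' := congrFun h 2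
    simp at h0 h1' h2'
    have hc : c = fun _ => c 0 := by
      funext i; fin_cases i
      exacts [rfl, h1'.symm, (h1'.trans h2').symm, h0]
    have hX : ∀ d, X (Φ fun _ => d) = ∑ j, X (op X d (E j)) := fun d => map_sum X _ _
    rw [hc]
    generalize c 0 = d
    fin_cases d
    · left; simp [Φ, op]
    · exact Or.inr (Or.inl rfl)
    · right; right; left
      rw [hX]; rfl
    · right; right; right
      rw [hX, map_sum]; rfl
  · rw [show (16 : ℕ) = Nat.card (Fin 4 × Fin 4) by simp]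
    symm
    refine Nat.card_congr (Equiv.ofBijective (fun p => ⟨Φ ![p.1, p.2, p.1, p.2], ?_⟩) ⟨?_, ?_⟩)
    · rw [hJΦ, hJΦ]; rfl
    · intro p p' h
      have h' := hinj (congrArg Subtype.val h)
      exact Prod.ext (congrFun h' 0) (congrFun h' 1)
    · rintro ⟨w, hw⟩
      obtain ⟨c, rfl⟩ := hbij.2 w
      rw [hJΦ, hJΦ] at hw
      have h := hinj hw
      refine ⟨(c 0, c 1), Subtype.ext (congrArg Φ ?_)⟩
      funext i
      have h0 := congrFun h 0
      have h1' := congrFun h 1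
      simp at h0 h1'
      fin_cases i
      exacts [rfl, rfl, h0.symm, h1'.symm]

end Cfsg.Agent.SymSixCore
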