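import Mathlib.GroupTheory.Perm.Sign
import Mathlib.GroupTheory.Perm.Fin
import Mathlib.Data.Fintype.Perm
import Mathlib.Tactic.FinCases

/-!
The group `S₃ × S₆` and its natural eight-dimensional module `U ⊗ W` over the field with two elements, with
`W` the natural symplectic module, coded by numbers below 16.
-/

set_option autoImplicit false

namespace Cfsg.Agent.SymSixCore

open Equiv

abbrev P3 := Perm (Fin 3)
abbrev P6 := Perm (Fin 6)
/-- The vectors of `W`. -/
abbrev W4 := Fin 16
/-- The vectors of `U ⊗ W`. -/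
abbrev Vm := W4 × W4

/-- Addition in `W`. -/
def wadd (a b : W4) : W4 := ⟨Nat.xor a b % 16, Nat.mod_lt _ (by decide)⟩

/-- Addition in `U ⊗ W`. -/
def vadd (v w : Vm) : Vm := (wadd v.1 w.1, wadd v.2 w.2)

/-- The six points. -/
def pt : Fin 6 → W4 := ![0, 1, 3, 7, 15, 10]

/-- The code of a pair of points. -/
def pcode (a b : Fin 6) : W4 := wadd (pt a) (pt b)

/-- The vector `n` if the bit is set. -/
def sel (n : W4) (k : ℕ) (v : W4) : W4 := if Nat.testBit n.val k then v else 0

/-- The action of a permutation of the points on `W`. -/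
def wact (τ : P6) (n : W4) : W4 :=
  wadd (wadd (sel n 0 (pcode (τ 0) (τ 1))) (sel n 1 (pcode (τ 1) (τ 2))))
    (wadd (sel n 2 (pcode (τ 2) (τ 3))) (sel n 3 (pcode (τ 3) (τ 4))))

/-- The bit. -/
def bit (n : W4) (k : ℕ) : Bool := Nat.testBit n.val k

/-- The symplectic form on `W`: neighbours in the chain of four basis pairs meet. -/
def beta (n m : W4) : Bool :=
  (bit n 0 && bit m 1) ^^ (bit n 1 && bit m 0) ^^ (bit n 1 && bit m 2) ^^ (bit n 2 && bit m 1) ^^
    (bit n 2 && bit m 3) ^^ (bit n 3 && bit m 2)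

/-- The quadratic form. -/
def qf (v : Vm) : Bool := beta v.1 v.2

/-- The bilinear form. -/
def bf (v w : Vm) : Bool := beta v.1 w.2 ^^ beta v.2 w.1

/-- The three copies of `W`. -/
def slice : Fin 3 → W4 → Vm := ![fun y => (y, 0), fun y => (0, y), fun y => (y, y)]

/-- The action. -/
def act (p : P3 × P6) (v : Vm) : Vm :=
  vadd (slice (p.1 0) (wact p.2 v.1)) (slice (p.1 1) (wact p.2 v.2))

theorem wadd_comm : ∀ a b : W4, wadd a b = wadd b a := by decide +kernel
theorem wadd_assoc : ∀ a b c : W4, wadd (wadd a b) c = wadd a (wadd b c) := by decide +kernel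
theorem wadd_zero : ∀ a : W4, wadd a 0 = a ∧ wadd 0 a = a ∧ wadd a a = 0 := by decide +kernel
theorem wadd_eq_zero : ∀ a b : W4, wadd a b = 0 ↔ a = b := by decide +kernel
theorem beta_add : ∀ a b c : W4, beta (wadd a b) c = (beta a c ^^ beta b c) := by decide +kernel
theorem beta_symm : ∀ a b : W4, beta a b = beta b a := by decide +kernel
theorem beta_self : ∀ a : W4, beta a a = false ∧ beta 0 a = false ∧ beta a 0 = false := by decide +kernel
theorem beta_nondeg : ∀ a : W4, a ≠ 0 → ∃ b, beta a b = true := by decide +kernel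
theorem beta_pcode : ∀ a b c d : Fin 6, a ≠ b → c ≠ d →
    beta (pcode a b) (pcode c d) = ((decide (a = c) || decide (a = d)) ^^ (decide (b = c) || decide (b = d))) := by
  decide +kernel
theorem pcode_ne : ∀ a b : Fin 6, a ≠ b → pcode a b ≠ 0 := by decide +kernel
theorem pcode_triangle : ∀ a b c : Fin 6, wadd (pcode a b) (pcode b c) = pcode a c := by decide +kernel
theorem pcode_surj : ∀ n : W4, n ≠ 0 → ∃ a b : Fin 6, a ≠ b ∧ pcode a b = n := by decide +kernel

set_option maxHeartbeats 4000000 in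
theorem wact_pcode : ∀ (τ : P6) (a b : Fin 6), wact τ (pcode a b) = pcode (τ a) (τ b) := by decide +kernel

theorem slice_inj : ∀ (i j : Fin 3) (y w : W4), y ≠ 0 → slice i y = slice j w → i = j ∧ y = w := by decide +kernel
theorem slice_add : ∀ (j : Fin 3) (y w : W4), slice j (wadd y w) = vadd (slice j y) (slice j w) := by decide +kernel
theorem qf_slice : ∀ (j : Fin 3) (y : W4), qf (slice j y) = false := by decide +kernel
theorem vadd_zero : ∀ v : Vm, vadd v (0, 0) = v ∧ vadd (0, 0) v = v ∧ vadd v v = (0, 0) := by decide +kernel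
theorem beta_add' (a b c : W4) : beta a (wadd b c) = (beta a b ^^ beta a c) := by
  rw [beta_symm, beta_add, beta_symm b a, beta_symm c a]

theorem bf_symm (v w : Vm) : bf v w = bf w v := by
  rw [bf, bf, beta_symm v.1 w.2, beta_symm v.2 w.1, Bool.xor_comm]
theorem qf_add (v w : Vm) : qf (vadd v w) = (qf v ^^ qf w ^^ bf v w) := by
  simp only [qf, bf, vadd, beta_add, beta_add', beta_symm v.2 w.1]
  cases beta v.1 v.2 <;> cases beta v.1 w.2 <;> cases beta w.1 v.2 <;> cases beta w.1 w.2 <;> rfl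

theorem bf_add (u v w : Vm) : bf (vadd u v) w = (bf u w ^^ bf v w) := by
  simp only [bf, vadd, beta_add]
  cases beta u.1 w.2 <;> cases beta v.1 w.2 <;> cases beta u.2 w.1 <;> cases beta v.2 w.1 <;> rfl

theorem perp_slice : ∀ (j : Fin 3) (v : Vm), (∀ y : W4, bf v (slice j y) = false) → ∃ y, v = slice j y := by
  decide +kernel

set_option maxHeartbeats 4000000 in
theorem transitive : ∀ y : W4, y ≠ 0 → ∃ τ : P6, Perm.sign τ = 1 ∧ wact τ 1 = y := by decide +kernel

set_option maxHeartbeats 4000000 in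
theorem allowed : ∀ τ : P6, wact τ 1 = 1 → τ * τ = 1 →
    τ * (swap 2 3 * swap 3 4 * τ * (swap 2 3 * swap 3 4)⁻¹) = swap 2 3 * swap 3 4 * τ * (swap 2 3 * swap 3 4)⁻¹ * τ →
    τ ∈ ([1, swap 2 3 * swap 4 5, swap 2 4 * swap 3 5, swap 2 5 * swap 3 4, swap 0 1,
      swap 0 1 * (swap 2 3 * swap 4 5), swap 0 1 * (swap 2 4 * swap 3 5), swap 0 1 * (swap 2 5 * swap 3 4)] : List P6) := by
  decide +kernel

theorem sel_add : ∀ (n m : W4) (k : Fin 4) (v : W4), sel (wadd n m) k v = wadd (sel n k v) (sel m k v) := by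
  decide +kernel

theorem wadd_four (a b c d : W4) : wadd (wadd a b) (wadd c d) = wadd (wadd a c) (wadd b d) := by
  rw [wadd_assoc, ← wadd_assoc b, wadd_comm b c, wadd_assoc c, ← wadd_assoc]

theorem wact_add (τ : P6) (n m : W4) : wact τ (wadd n m) = wadd (wact τ n) (wact τ m) := by
  have h0 := sel_add n m 0
  have h1 := sel_add n m 1
  have h2 := sel_add n m 2
  have h3 := sel_add n m 3
  simp only [Fin.val_zero, Fin.val_one, Fin.val_two, show ((3 : Fin 4) : ℕ) = 3 from rfl] at h0 h1 h2 h3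
  simp only [wact, h0, h1, h2, h3]
  rw [wadd_four (sel n 0 _), wadd_four (sel n 2 _), wadd_four]

theorem wact_zero : ∀ τ : P6, wact τ 0 = 0 := fun τ => by
  simp [wact, sel, (wadd_zero 0).1]

theorem wact_mul (τ τ' : P6) (n : W4) : wact (τ * τ') n = wact τ (wact τ' n) := by
  by_cases h : n = 0
  · rw [h, wact_zero, wact_zero, wact_zero]
  obtain ⟨a, b, -, rfl⟩ := pcode_surj n h
  rw [wact_pcode, wact_pcode, wact_pcode, Perm.mul_apply, Perm.mul_apply]

theorem wact_one (n : W4) : wact 1 n = n := by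
  by_cases h : n = 0
  · rw [h, wact_zero]
  obtain ⟨a, b, -, rfl⟩ := pcode_surj n h
  rw [wact_pcode]; rfl

theorem wact_inj {τ : P6} {n m : W4} (h : wact τ n = wact τ m) : n = m := by
  have := congrArg (wact τ⁻¹) h
  rwa [← wact_mul, ← wact_mul, inv_mul_cancel, wact_one, wact_one] at this

theorem beta_wact (τ : P6) (n m : W4) : beta (wact τ n) (wact τ m) = beta n m := by
  by_cases hn : n = 0
  · rw [hn, wact_zero, (beta_self _).2.1, (beta_self _).2.1]
  by_cases hm : m = 0
  · rw [hm, wact_zero, (beta_self _).2.2, (beta_self _).2.2]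
  obtain ⟨a, b, hab, rfl⟩ := pcode_surj n hn
  obtain ⟨c, d, hcd, rfl⟩ := pcode_surj m hm
  rw [wact_pcode, wact_pcode, beta_pcode _ _ _ _ (τ.injective.ne hab) (τ.injective.ne hcd),
    beta_pcode _ _ _ _ hab hcd]
  simp [τ.injective.eq_iff]

theorem slice_two : ∀ (σ : P3) (y : W4),
    slice (σ 2) y = vadd (slice (σ 0) y) (slice (σ 1) y) := by decide +kernel

theorem slice_zero : ∀ j : Fin 3, slice j 0 = (0, 0) := by decide

theorem act_slice (σ : P3) (τ : P6) (j : Fin 3) (y : W4) :
    act (σ, τ) (slice j y) = slice (σ j) (wact τ y) := by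
  fin_cases j
  · show vadd (slice (σ 0) (wact τ y)) (slice (σ 1) (wact τ 0)) = _
    rw [wact_zero, slice_zero, (vadd_zero _).1]; rfl
  · show vadd (slice (σ 0) (wact τ 0)) (slice (σ 1) (wact τ y)) = _
    rw [wact_zero, slice_zero, (vadd_zero _).2.1]; rfl
  · exact (slice_two σ _).symm

theorem vadd_four (a b c d : Vm) : vadd (vadd a b) (vadd c d) = vadd (vadd a c) (vadd b d) :=
  Prod.ext (wadd_four _ _ _ _) (wadd_four _ _ _ _)

theorem act_add (p : P3 × P6) (v w : Vm) : act p (vadd v w) = vadd (act p v) (act p w) := by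
  show vadd (slice _ (wact _ (wadd _ _))) (slice _ (wact _ (wadd _ _))) = _
  rw [wact_add, wact_add, slice_add, slice_add, vadd_four]
  rfl

theorem split_slice (v : Vm) : v = vadd (slice 0 v.1) (slice 1 v.2) :=
  Prod.ext (wadd_zero _).1.symm (wadd_zero _).2.1.symm

theorem act_mul (p p' : P3 × P6) (v : Vm) : act (p * p') v = act p (act p' v) := by
  obtain ⟨σ, τ⟩ := p
  obtain ⟨σ', τ'⟩ := p'
  rw [split_slice v, Prod.mk_mul_mk, act_add, act_add, act_add, act_slice, act_slice, act_slice, act_slice,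
    act_slice, act_slice, wact_mul, wact_mul]
  rfl

theorem act_one (v : Vm) : act 1 v = v := by
  rw [split_slice v, act_add, show (1 : P3 × P6) = (1, 1) from rfl, act_slice, act_slice, wact_one, wact_one]
  rfl

set_option maxHeartbeats 4000000 in
theorem nonpure : ∀ v : Vm, qf v = false → v ≠ (0, 0) → (∃ j y, v = slice j y) ∨
    ∃ τ : P6, Perm.sign τ = 1 ∧ (act (finRotate 3, τ) v = v) := by decide +kernel

end Cfsg.Agent.SymSixCore
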