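import Cfsg.Agent.Lib.SymSixCore.Contra
import Cfsg.Agent.Lib.LargeExtra.TransferIndexTwo
import Cfsg.Agent.Lib.SmallCent.Transfer

/-!
An involution centralizer with extraspecial core of order `2⁹` and quotient inside `S₃ × S₆` mapping onto the
signs of the first factor contradicts transfer.
-/

set_option autoImplicit false
set_option linter.style.haveILetI false
set_option linter.unusedSectionVars false

namespace Cfsg.Agent.SymSixCore

open Equiv Cfsg Cfsg.Agent.LargeExtra

universe u

variable {G : Type u} [Group G] [Finite G] {z : G} {Q : Subgroup G} {π : G → P3 × P6}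

theorem Core.false (C : Core z Q π) : False := by
  classical
  let f : ↥(Subgroup.centralizer ({z} : Set G)) →* ℤˣ :=
    MonoidHom.mk' (fun h => Perm.sign (π (h : G)).1) fun a b => by
      show Perm.sign (π ((a : G) * b)).1 = _
      rw [C.π_mul _ _ (mem_centralizer_one.1 a.2) (mem_centralizer_one.1 b.2), Prod.fst_mul, map_mul]
  set K := f.ker.map (Subgroup.centralizer ({z} : Set G)).subtype with hK
  have hf : Function.Surjective f := by
    intro y
    rcases Int.units_eq_one_or y with rfl | rfl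
    · exact ⟨1, map_one f⟩
    · obtain ⟨h, hh, hs⟩ := C.odd
      exact ⟨⟨h, mem_centralizer_one.2 hh⟩, hs⟩
  have hKi : K.relIndex (Subgroup.centralizer ({z} : Set G)) = 2 := by
    rw [hK, Subgroup.relIndex, Subgroup.subgroupOf,
      Subgroup.comap_map_eq_self_of_injective (Subgroup.subtype_injective _), Subgroup.index_ker,
      MonoidHom.range_eq_top.2 hf, Subgroup.card_top, Nat.card_eq_fintype_card, Fintype.card_units_int]
  refine LargeExtra.false_of_even_orbits C.res C.loc (IdxTwo.of_relIndex (Subgroup.map_subtype_le _) hKi)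
    (Or.inr (by rw [C.card]; norm_num)) fun g hg hne y hy hgy => ?_
  have hm := mem_conjMap.1 (C.loc.mem_conj C.Q32 hg hne)
  have P : Pair Q z g⁻¹ := ⟨C.loc, C.Q32, by rw [inv_inv]; exact hm, fun e => hne (by
    rw [inv_inv] at e
    calc g * z * g⁻¹ = g * (g⁻¹ * z * g) * g⁻¹ := by rw [e]
      _ = z := by group)⟩
  have hR : InR z Q π g⁻¹ (π (g⁻¹ * y * g)) :=
    ⟨_, mem_Qc.2 (by rwa [inv_inv, show g * (g⁻¹ * y * g) * g⁻¹ = y by group]), mem_centralizer_one.1 hgy, rfl⟩
  have hs : Perm.sign (π (g⁻¹ * y * g)).1 = 1 :=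
    (Int.units_eq_one_or _).resolve_right fun e => C.not_odd P ⟨_, hR, e⟩
  exact ⟨⟨_, hgy⟩, hs, rfl⟩

/-- A nonabelian simple group has no such centralizer: the quotient is given by a homomorphism. -/
theorem false_of_hom [IsSimpleGroup G] (hz : orderOf z = 2) (loc : XSLocal Q z) (card : Nat.card Q = 512)
    (f : ↥(Subgroup.centralizer ({z} : Set G)) →* P3 × P6) (hker : ∀ h, f h = 1 ↔ (h : G) ∈ Q)
    (hev : ∀ σ τ, Perm.sign σ = 1 → Perm.sign τ = 1 → ∃ h, f h = (σ, τ))
    (hodd : ∃ h, Perm.sign (f h).1 = -1) : False := by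
  classical
  have hG : ¬ IsCyclic G := fun hc => by
    letI := hc.commGroup
    have hp := IsSimpleGroup.prime_card (α := G)
    have h2 : Nat.card G = 2 := ((Nat.prime_dvd_prime_iff_eq Nat.prime_two hp).1 (hz ▸ orderOf_dvd_natCard z)).symm
    have hle := Subgroup.card_le_card_group Q
    omega
  let π : G → P3 × P6 := fun g => if h : g ∈ Subgroup.centralizer ({z} : Set G) then f ⟨g, h⟩ else 1
  have hπ : ∀ h : ↥(Subgroup.centralizer ({z} : Set G)), π (h : G) = f h := fun h => dif_pos h.2
  refine Core.false (z := z) (Q := Q) (π := π) ⟨loc, card, fun a b ha hb => ?_, fun h hh => ?_,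
    fun σ τ h1 h2 => ?_, ?_, SmallCent.residual_top hG⟩
  · exact (hπ (⟨a, mem_centralizer_one.2 ha⟩ * ⟨b, mem_centralizer_one.2 hb⟩)).trans
      ((map_mul f _ _).trans (congrArg₂ (· * ·) (hπ _).symm (hπ _).symm))
  · exact (Iff.of_eq (congrArg (· = 1) (hπ ⟨h, mem_centralizer_one.2 hh⟩))).trans (hker _)
  · obtain ⟨h, e⟩ := hev σ τ h1 h2
    exact ⟨h, mem_centralizer_one.1 h.2, (hπ h).trans e⟩
  · obtain ⟨h, e⟩ := hodd
    exact ⟨h, mem_centralizer_one.1 h.2, by rw [hπ]; exact e⟩

end Cfsg.Agent.SymSixCore
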