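import Cfsg.Agent.Lib.SymSixCore.Space
import Cfsg.Agent.Lib.SymSixCore.Eigen
import Cfsg.Agent.Lib.SymSixCore.Dihedral

/-!
If some conjugate `a` of `z` in `Q` has an element odd on the first factor in the image of `Q_a ∩ C(z)`, then
the element of order three of the first factor moves all of `Q/⟨z⟩`.
-/

set_option autoImplicit false
set_option linter.style.haveILetI false
set_option linter.unusedSectionVars false

namespace Cfsg.Agent.SymSixCore

open Equiv Cfsg Cfsg.Agent.LargeExtra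

universe u

/-- `(0 1 2)`. -/
def th1 : P6 := swap 0 1 * swap 1 2
/-- `(3 4 5)`. -/
def th2 : P6 := swap 3 4 * swap 4 5
/-- An element of order four normalizing `⟨th1, th2⟩`. -/
def jj : P6 := swap 0 3 * swap 3 1 * swap 1 4 * swap 2 5
/-- `(0 1 2 3 4)`. -/
def five : P6 := swap 0 1 * swap 1 2 * swap 2 3 * swap 3 4
/-- An involution inverting `five`. -/
def g0 : P6 := swap 1 4 * swap 2 3
/-- The three cycle of the first factor. -/
def x3 : P3 := finRotate 3

theorem sign_x3 : Perm.sign x3 = 1 ∧ x3 * x3 * x3 = 1 ∧ x3 ≠ 1 := by decide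

theorem nine_rel : th1 * th1 * th1 = 1 ∧ th2 * th2 * th2 = 1 ∧ jj * jj * jj * jj = 1 ∧ th1 * th2 = th2 * th1 ∧
    jj * th1 = th2 * jj ∧ jj * th2 = th1 * th1 * jj ∧ Perm.sign th1 = 1 ∧ Perm.sign th2 = 1 ∧ Perm.sign jj = 1 := by
  decide +kernel

theorem five_rel : five * five * five * five * five = 1 ∧ g0 * g0 = 1 ∧ g0 * five = five * five * five * five * g0 ∧
    five * five ≠ 1 ∧ Perm.sign five = 1 ∧ Perm.sign g0 = 1 := by decide +kernel

theorem odd_three : ∀ σ ρ : P3, Perm.sign σ = 1 → σ ≠ 1 → Perm.sign ρ = -1 →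
    ρ * (σ * ρ * σ⁻¹) ≠ σ * ρ * σ⁻¹ * ρ := by decide +kernel

theorem comm_two : ∀ σ ρ : P3, σ * σ = 1 → ρ * ρ = 1 → σ * ρ = ρ * σ → σ = 1 ∨ ρ = 1 ∨ σ = ρ := by decide +kernel

set_option maxHeartbeats 4000000 in
theorem invol_conj : ∀ τ : P6, Perm.sign τ = 1 → τ * τ = 1 → τ ≠ 1 →
    ∃ ρ : P6, Perm.sign ρ = 1 ∧ ρ * τ * ρ⁻¹ = g0 := by decide +kernel

set_option maxHeartbeats 4000000 in
theorem three_words : ∃ α β γ δ : P6, Perm.sign α = 1 ∧ Perm.sign β = 1 ∧ Perm.sign γ = 1 ∧ Perm.sign δ = 1 ∧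
    five = α * th1 * α⁻¹ * (β * th1 * β⁻¹) ∧ g0 = γ * th1 * γ⁻¹ * (δ * th1 * δ⁻¹) :=
  ⟨1, swap 0 2 * swap 1 3 * swap 2 4 * swap 3 4, swap 0 1 * swap 1 2 * swap 2 3 * swap 4 5,
    swap 0 1 * swap 1 4 * swap 2 3 * swap 3 4, by decide +kernel⟩

variable {G : Type u} [Group G] [Finite G] {z : G} {Q : Subgroup G} {π : G → P3 × P6}
variable {V : Type u} [AddCommGroup V] {v : G → V} {A : P3 × P6 → V →+ V} {q : V → Bool} {B : V → V → Bool}

namespace Space

variable (S : Space z Q π V v A q B)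
include S

theorem ev_lift {σ : P3} {τ : P6} (h1 : Perm.sign σ = 1) (h2 : Perm.sign τ = 1) :
    ∃ h, h * z = z * h ∧ π h = (σ, τ) := S.C.ev σ τ h1 h2

/-- The elements of odd order act faithfully. -/
theorem sq_one_of_fix {h : G} (hh : h * z = z * h) (hfix : ∀ w, A (π h) w = w) : π h * π h = 1 := by
  rw [← S.C.π_mul h h hh hh]
  refine S.C.π_Q (Subgroup.zpowers_le.2 S.C.zQ (S.C.loc.cent ?_))
  refine Subgroup.mem_centralizer_iff.2 fun p hp => ?_
  refine (XSub.conj_eq_self_iff.1 ?_).symm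
  have hz : h * z * h⁻¹ = z := by rw [hh, mul_inv_cancel_right]
  rcases (S.veq hp (S.C.conjQ hh hp)).1 (by rw [S.act h p hh hp, hfix]) with e | e
  · calc h * h * p * (h * h)⁻¹ = h * (h * p * h⁻¹) * h⁻¹ := by group
      _ = p := by rw [e, e]
  · calc h * h * p * (h * h)⁻¹ = h * (h * p * h⁻¹) * h⁻¹ := by group
      _ = h * (p * z) * h⁻¹ := by rw [e]
      _ = h * p * h⁻¹ * (h * z * h⁻¹) := by group
      _ = p := by rw [hz, e, mul_assoc, S.C.zz, mul_one]

theorem A6 {τ τ' : P6} (h : Perm.sign τ = 1) (h' : Perm.sign τ' = 1) (w : V) :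
    A (1, τ) (A (1, τ') w) = A (1, τ * τ') w := by
  rw [← S.A_ev (map_one _) h (map_one _) h', mul_one]

theorem A6' : A ((1 : P3), (1 : P6)) = AddMonoidHom.id V := AddMonoidHom.ext S.A_one

/-- The operators of the nine. -/
theorem nine : Nine (A (x3, 1)) (A (1, th1)) (A (1, th2)) (A (1, jj)) := by
  obtain ⟨r1, r2, r3, r4, r5, r6, s1, s2, s3⟩ := nine_rel
  have sx := sign_x3.1
  have o3 : Perm.sign (1 : P3) = 1 := map_one _
  have o6 : Perm.sign (1 : P6) = 1 := map_one _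
  have one' : ∀ w, A ((1 : P3), (1 : P6)) w = w := S.A_one
  constructor
  · exact S.two
  · intro w
    rw [← S.A_ev sx o6 sx o6, ← S.A_ev (by rw [map_mul, sx, one_mul]) (by simp) sx o6, sign_x3.2.1, mul_one,
      mul_one, one']
  · intro w
    rw [S.A6 s1 s1, S.A6 (by rw [map_mul, s1, one_mul]) s1, r1, one']
  · intro w
    rw [S.A6 s2 s2, S.A6 (by rw [map_mul, s2, one_mul]) s2, r2, one']
  · intro w
    rw [S.A6 s3 s3, S.A6 (by rw [map_mul, s3, one_mul]) s3, S.A6 (by rw [map_mul, map_mul, s3]; simp) s3, r3, one']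
  · intro w; rw [← S.A_ev sx o6 o3 s1, ← S.A_ev o3 s1 sx o6]; simp
  · intro w; rw [← S.A_ev sx o6 o3 s2, ← S.A_ev o3 s2 sx o6]; simp
  · intro w; rw [← S.A_ev sx o6 o3 s3, ← S.A_ev o3 s3 sx o6]; simp
  · intro w; rw [← S.A_ev o3 s1 o3 s2, ← S.A_ev o3 s2 o3 s1, r4]
  · intro w; rw [← S.A_ev o3 s3 o3 s1, ← S.A_ev o3 s2 o3 s3, r5]
  · intro w
    rw [S.A6 s3 s2, S.A6 s1 s1, S.A6 (by rw [map_mul, s1, one_mul]) s3, r6]
  · exact S.card

/-- Conjugation by an element fixing `z^g` modulo `z` and of order three on the first factor is impossible. -/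
theorem no_three {g : G} (P : Pair Q z g) (hO : Odd3 z Q π g) {σ : P3} {τ : P6} (h1 : Perm.sign σ = 1)
    (h2 : Perm.sign τ = 1) (hne : σ ≠ 1) : A (σ, τ) (v (g * z * g⁻¹)) ≠ v (g * z * g⁻¹) := by
  intro hfix
  obtain ⟨h, hh, e⟩ := S.C.ev σ τ h1 h2
  rw [← e, ← S.act h _ hh P.mem, S.veq (S.C.conjQ hh P.mem) P.mem] at hfix
  obtain ⟨k, hk, hka, hkπ⟩ := S.C.lift P.mem P.h'.toXSub.ne_one P.ne hh (by
    rcases hfix with f | f
    · exact Or.inl f.symm
    · exact Or.inr (by conv_rhs => rw [f, mul_assoc, S.C.zz, mul_one]))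
  obtain ⟨⟨ρ, r6⟩, hr, hρ⟩ := hO
  have h' := S.C.R_conj P hr hk hka
  rw [hkπ, e] at h'
  have hc := congrArg Prod.fst (S.C.R_comm P hr h')
  exact odd_three σ ρ h1 hne hρ (by simpa using hc)

/-- An involution of the second factor in the image. -/
theorem exists_even {g : G} (P : Pair Q z g) :
    ∃ τ : P6, Perm.sign τ = 1 ∧ τ ≠ 1 ∧ InR z Q π g (1, τ) := by
  classical
  by_contra hcon
  push Not at hcon
  -- a fibre of the map to the two signs and the first factor is a single element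
  have h4 : ∀ p p' : {p // InR z Q π g p}, p.1.1 = p'.1.1 → Perm.sign p.1.2 = Perm.sign p'.1.2 → p = p' := by
    intro p p' e1 e2
    have hm := S.C.R_mul P p.2 p'.2
    have hsq := S.C.R_sq P p'.2
    have hσ : (p.1 * p'.1).1 = 1 := by
      rw [Prod.fst_mul, e1, ← Prod.fst_mul, hsq]; rfl
    have hτ : Perm.sign (p.1 * p'.1).2 = 1 := by
      rw [Prod.snd_mul, map_mul, e2, ← map_mul, ← Prod.snd_mul, hsq]; simp
    have h1' : (p.1 * p'.1).2 = 1 := by
      by_contra hne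
      refine hcon _ hτ hne ?_
      rw [← hσ]
      exact hm
    have hone : p.1 * p'.1 = 1 := Prod.ext hσ h1'
    refine Subtype.ext ?_
    calc p.1 = p.1 * (p'.1 * p'.1) := by rw [hsq, mul_one]
      _ = p'.1 := by rw [← mul_assoc, hone, one_mul]
  obtain ⟨ρ, hρ⟩ : ∃ ρ : P3, ∀ p : {p // InR z Q π g p}, p.1.1 = 1 ∨ p.1.1 = ρ := by
    by_cases h : ∃ p : {p // InR z Q π g p}, p.1.1 ≠ 1
    · obtain ⟨p, hp⟩ := h
      refine ⟨p.1.1, fun p' => ?_⟩
      rcases comm_two p'.1.1 p.1.1 (congrArg Prod.fst (S.C.R_sq P p'.2)) (congrArg Prod.fst (S.C.R_sq P p.2))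
        (congrArg Prod.fst (S.C.R_comm P p'.2 p.2)) with e | e | e
      exacts [Or.inl e, absurd e hp, Or.inr e]
    · push Not at h
      exact ⟨1, fun p => Or.inl (h p)⟩
  have hle : Nat.card {p // InR z Q π g p} ≤ Nat.card (Bool × ℤˣ) := by
    refine Nat.card_le_card_of_injective (fun p => (decide (p.1.1 = 1), Perm.sign p.1.2)) fun p p' e => ?_
    simp only [Prod.mk.injEq, decide_eq_decide] at e
    refine h4 p p' ?_ e.2
    rcases hρ p with a | a <;> rcases hρ p' with b | b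
    · rw [a, b]
    · rw [a, e.1.1 a]
    · rw [b, e.1.2 b]
    · rw [a, b]
  have h8 := S.C.card_R P
  rw [Nat.card_prod, Nat.card_eq_fintype_card (α := ℤˣ), Fintype.card_units_int, Nat.card_eq_fintype_card (α := Bool),
    Fintype.card_bool] at hle
  omega

/-- The element of order three of the first factor moves everything. -/
theorem moved {g : G} (P : Pair Q z g) (hO : Odd3 z Q π g) :
    Monomial (A (x3, 1)) (A (1, th1)) (A (1, th2)) (A (1, jj)) := by
  classical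
  have N := S.nine
  by_cases hne : ∃ w, (w + A (x3, 1) w + A (x3, 1) (A (x3, 1) w) = 0) ∧ (A (1, th1) w ≠ w ∨ A (1, th2) w ≠ w)
  · obtain ⟨w, hw, h⟩ := hne
    exact N.monomial hw h
  exfalso
  push Not at hne
  set X := A (x3, 1) with hX
  obtain ⟨-, -, -, -, -, -, s1, -, -⟩ := nine_rel
  obtain ⟨f5, g2, gf, f2, sf, sg⟩ := five_rel
  have o3 : Perm.sign (1 : P3) = 1 := map_one _
  have sx := sign_x3.1
  have hXcomm : ∀ τ : P6, Perm.sign τ = 1 → ∀ w, X (A (1, τ) w) = A (1, τ) (X w) := fun τ hτ w => by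
    rw [hX, ← S.A_ev sx (map_one _) o3 hτ, ← S.A_ev o3 hτ sx (map_one _)]; simp
  have hconj : ∀ α : P6, Perm.sign α = 1 → ∀ w, w + X w + X (X w) = 0 → A (1, α * th1 * α⁻¹) w = w := by
    intro α hα w hw
    have hαi : Perm.sign α⁻¹ = 1 := by rw [map_inv, hα, inv_one]
    have hm := N.moved_map (A (1, α⁻¹)) (hXcomm _ hαi) hw
    calc A (1, α * th1 * α⁻¹) w = A ((1 : P3) * (1 * 1), α * (th1 * α⁻¹)) w := by
          rw [mul_one, mul_one, mul_assoc]
      _ = A (1, α) (A (1, th1) (A (1, α⁻¹) w)) := by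
          rw [S.A_ev o3 hα (by simp) (by rw [map_mul, s1, hαi, one_mul]), S.A_ev o3 s1 o3 hαi]
      _ = A (1, α) (A (1, α⁻¹) w) := by rw [(hne _ hm).1]
      _ = w := by rw [← S.A_ev o3 hα o3 hαi, mul_inv_cancel, mul_one]; exact S.A_one w
  obtain ⟨α, β, γ, δ, sα, sβ, sγ, sδ, ef, eg⟩ := three_words
  have sc : ∀ α : P6, Perm.sign α = 1 → Perm.sign (α * th1 * α⁻¹) = 1 := fun α hα => by
    simp [map_mul, map_inv, hα, s1]
  have hpair : ∀ α β : P6, Perm.sign α = 1 → Perm.sign β = 1 → ∀ w, w + X w + X (X w) = 0 →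
      A (1, α * th1 * α⁻¹ * (β * th1 * β⁻¹)) w = w := fun α β hα hβ w hw => by
    rw [show ((1 : P3), α * th1 * α⁻¹ * (β * th1 * β⁻¹)) = ((1 : P3) * 1, α * th1 * α⁻¹ * (β * th1 * β⁻¹)) by
      rw [mul_one], S.A_ev o3 (sc α hα) o3 (sc β hβ), hconj β hβ w hw, hconj α hα w hw]
  set a := v (g * z * g⁻¹) with ha
  -- the moved component of `a`
  have hXa : X a ≠ a := S.no_three P hO sign_x3.1 (map_one _) sign_x3.2.2
  set w₀ := X a + X (X a) with hw₀
  have hmov : ∀ b, X b + X (X b) + X (X b + X (X b)) + X (X (X b + X (X b))) = 0 := by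
    intro b
    rw [map_add, map_add, N.X3]
    rw [show X b + X (X b) + (X (X b) + b) + (b + X b) = (X b + X b) + (X (X b) + X (X b)) + (b + b) by abel,
      S.two, S.two]; simp [S.two]
  have hw0 : w₀ ≠ 0 := fun h => hXa (by
    have h' := congrArg X h
    rw [hw₀, map_add, map_zero, N.X3] at h'
    have e1 : X a = X (X a) := add_right_cancel (h.trans (S.two (X (X a))).symm)
    have e2 : X (X a) = a := add_right_cancel (h'.trans (S.two a).symm)
    exact e1.trans e2)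
  have hBX : ∀ b c, B (X b) (X c) = B b c := fun b c => by
    obtain ⟨h, hh, e⟩ := S.C.ev x3 1 sx (map_one _)
    rw [hX, ← e]; exact S.B_act hh b c
  obtain ⟨b, hb⟩ := S.nondeg hw0
  set u := X b + X (X b) with hu
  have hua : B u a = true := by
    have e1 : B b (X a) = B (X (X b)) a := by rw [← hBX b (X a), ← hBX (X b) (X (X a)), N.X3]
    have e2 : B b (X (X a)) = B (X b) a := by rw [← hBX b (X (X a)), N.X3]
    rw [S.B_symm, hw₀, S.B_add', e1, e2] at hb
    rw [hu, S.B_add, Bool.xor_comm]; exact hb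
  -- the commutator with the involution
  obtain ⟨τ, hτ, hτ1, c, hc, hcz, hcπ⟩ := S.exists_even P
  have hτ2 : τ * τ = 1 := congrArg Prod.snd (S.C.R_sq P ⟨c, hc, hcz, hcπ⟩)
  set T := A (1, τ) with hT
  have hT2 : ∀ w, T (T w) = w := fun w => by
    rw [hT, ← S.A_ev o3 hτ o3 hτ, hτ2, mul_one]; exact S.A_one w
  have hTB : ∀ b c, B (T b) (T c) = B b c := fun b c' => by rw [hT, ← hcπ]; exact S.B_act hcz b c'
  have hΛ : ∀ w, q (T w + w) = B (T w) w := fun w => by
    rw [S.q_add, show q (T w) = q w by rw [hT, ← hcπ]; exact S.q_act hcz w]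
    cases q w <;> simp
  have hlin : ∀ w w', q (T (w + w') + (w + w')) = (q (T w + w) ^^ q (T w' + w')) := fun w w' => by
    rw [hΛ, hΛ, hΛ, map_add, S.B_add, S.B_add', S.B_add']
    have : B (T w') w = B (T w) w' := by rw [← hTB (T w') w, hT2, S.B_symm]
    rw [this]
    cases B (T w) w <;> cases B (T w) w' <;> cases B (T w') w' <;> rfl
  have hperp : ∀ w, B w a = false → q (T w + w) = false := by
    intro w hw
    obtain ⟨p, hp, rfl⟩ := S.v_surj w
    have hpa := (S.comm p _ hp P.mem).2 hw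
    have hI : c * p * c⁻¹ * p⁻¹ ∈ Q ⊓ Qc Q g := by
      refine ⟨Q.mul_mem (S.C.conjQ hcz hp) (Q.inv_mem hp), ?_⟩
      rw [show c * p * c⁻¹ * p⁻¹ = c * (p * c⁻¹ * p⁻¹) by group]
      exact (Qc Q g).mul_mem hc (S.C.Qc_norm hpa ((Qc Q g).inv_mem hc))
    have := (S.sq _ hI.1).1 (S.C.inter_sq P hI)
    rwa [S.v_comm hcz hp, hcπ] at this
  have hu0 : T u = u := by
    have := hpair γ δ sγ sδ
    rw [← eg] at this
    -- transport to the involution
    obtain ⟨ρ, hρ, hρτ⟩ := invol_conj τ hτ hτ2 hτ1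
    have hρi : Perm.sign ρ⁻¹ = 1 := by rw [map_inv, hρ, inv_one]
    have hm := N.moved_map (A (1, ρ)) (hXcomm _ hρ) (hmov b)
    have h2 := this _ hm
    rw [← hρτ, show ((1 : P3), ρ * τ * ρ⁻¹) = ((1 : P3) * (1 * 1), ρ * (τ * ρ⁻¹)) by rw [mul_one, mul_one, mul_assoc],
      S.A_ev o3 hρ (by simp) (by rw [map_mul, hτ, hρi, one_mul]), S.A_ev o3 hτ o3 hρi, ← S.A_ev o3 hρi o3 hρ,
      inv_mul_cancel, mul_one] at h2
    have h3 := congrArg (A (1, ρ⁻¹)) h2
    rw [← S.A_ev o3 hρi o3 hρ, ← S.A_ev o3 hρi o3 hρ, inv_mul_cancel, mul_one] at h3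
    simpa only [S.A6', AddMonoidHom.id_apply] using h3
  have hzero : ∀ w, q (T w + w) = false := by
    intro w
    cases hw : B w a
    · exact hperp w hw
    · have h := hperp (w + u) (by rw [S.B_add, hw, hua]; rfl)
      rw [hlin, show q (T u + u) = false by rw [hu0, S.two, S.q_zero]] at h
      simpa using h
  -- transport to the inverting involution
  obtain ⟨ρ, hρ, hρτ⟩ := invol_conj τ hτ hτ2 hτ1
  have hρi : Perm.sign ρ⁻¹ = 1 := by rw [map_inv, hρ, inv_one]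
  obtain ⟨k, hk, hkπ⟩ := S.C.ev 1 ρ o3 hρ
  refine no_singular_inverting q B (A (1, five)) (A (1, g0)) S.two S.card ?_ ?_ ?_ ?_ ?_ S.q_add S.B_add'
    S.B_symm (fun a ha => S.nondeg ha) ?_ ?_ ?_
  · intro w
    rw [S.A6 sf sf, S.A6 (by simp [map_mul, sf]) sf, S.A6 (by simp [map_mul, sf]) sf,
      S.A6 (by simp [map_mul, sf]) sf, f5]
    exact S.A_one w
  · intro w; rw [← S.A_ev o3 sg o3 sg, g2, mul_one]; exact S.A_one w
  · intro w
    rw [S.A6 sg sf, S.A6 sf sf, S.A6 (by simp [map_mul, sf]) sf, S.A6 (by simp [map_mul, sf]) sf,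
      S.A6 (by simp [map_mul, sf]) sg, gf]
  · intro w; obtain ⟨h, hh, e⟩ := S.C.ev 1 five o3 sf; rw [← e]; exact S.q_act hh w
  · intro w w'; obtain ⟨h, hh, e⟩ := S.C.ev 1 five o3 sf; rw [← e]; exact S.B_act hh w w'
  · by_contra hc'
    push Not at hc'
    obtain ⟨h, hh, e⟩ := S.C.ev 1 five o3 sf
    have := congrArg Prod.snd (S.sq_one_of_fix hh fun w => by rw [e]; exact hc' w)
    rw [e] at this
    exact f2 this
  · refine ⟨u, fun h => ?_, ?_⟩
    · rw [h, S.B_zero] at hua; simp at hua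
    · rw [ef]; exact hpair α β sα sβ u (hmov b)
  · intro w
    have e : ((1 : P3), g0) = π k * (1, τ) * (π k)⁻¹ := by
      rw [hkπ, ← hρτ]; simp
    obtain ⟨p, hp, rfl⟩ := S.v_surj w
    have hkp := S.C.conjQ' hk hp
    have hg : A (1, g0) (v p) = A (π k) (T (v (k⁻¹ * p * k))) := by
      rw [e, ← hcπ, ← S.C.π_conj hk hcz, ← S.act _ p (conjz hk hcz) hp,
        hT, ← hcπ, ← S.act c _ hcz hkp, ← S.act k _ hk (S.C.conjQ hcz hkp)]
      congr 1; group
    have hw : v p = A (π k) (v (k⁻¹ * p * k)) := by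
      rw [← S.act k _ hk hkp]; congr 1; group
    rw [hg, hw, ← map_add, S.q_act hk]
    exact hzero _

end Space

end Cfsg.Agent.SymSixCore
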