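import Cfsg.Agent.Lib.SymSixCore.Descent

/-!
The conjugate `a = z^g` is a pure tensor, and the intersection `Q ∩ Q_a` is known.
-/

set_option autoImplicit false
set_option linter.style.haveILetI false
set_option linter.unusedSectionVars false

namespace Cfsg.Agent.SymSixCore

open Equiv Cfsg Cfsg.Agent.LargeExtra

universe u

/-- An element of order three fixing the first pair. -/
def thS : P6 := swap 2 3 * swap 3 4

theorem thS_facts : Perm.sign thS = 1 ∧ wact thS 1 = 1 := by decide +kernel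

theorem to_zero : ∀ j : Fin 3, ∃ σ : P3, Perm.sign σ = 1 ∧ σ j = 0 := by decide +kernel

theorem fix_zero : ∀ σ : P3, σ 0 = 0 → σ = 1 ∨ σ = t0 := by decide +kernel

/-- The fours. -/
def fours : List P6 := [swap 2 3 * swap 4 5, swap 2 4 * swap 3 5, swap 2 5 * swap 3 4]

/-- The eight. -/
def eights : List P6 := [1, swap 2 3 * swap 4 5, swap 2 4 * swap 3 5, swap 2 5 * swap 3 4, swap 0 1,
  swap 0 1 * (swap 2 3 * swap 4 5), swap 0 1 * (swap 2 4 * swap 3 5), swap 0 1 * (swap 2 5 * swap 3 4)]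

theorem eights_gen : ∀ τ ∈ eights, τ ≠ 1 → τ ≠ tau0 → τ * (thS * τ * thS⁻¹) ∈ fours := by decide +kernel

theorem fours_orbit : ∀ ν ∈ fours, ∀ ν' ∈ fours,
    ν' = ν ∨ ν' = thS * ν * thS⁻¹ ∨ ν' = thS * (thS * ν * thS⁻¹) * thS⁻¹ := by decide +kernel

theorem eights_split : ∀ τ ∈ eights, (τ = 1 ∨ τ = tau0) ∨ ∃ ν ∈ fours, τ * ν = 1 ∨ τ * ν = tau0 := by
  decide +kernel

theorem tau0_perp : ∀ y : W4, beta 1 y = false → wact tau0 y = y := by decide +kernel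

theorem t0_slice : ∀ y : W4, slice (t0 1) y = (y, y) ∧ slice (t0 0) y = (y, 0) := by decide +kernel

theorem four_move : vadd (act (1, swap 2 3 * swap 4 5) ((0 : W4), pcode 3 4)) ((0 : W4), pcode 3 4) = (0, 1) ∧
    beta 1 (pcode 3 4) = false := by decide +kernel

theorem vadd_eq_zero {v w : Vm} : vadd v w = (0, 0) ↔ v = w := by
  simp [vadd, Prod.ext_iff, wadd_eq_zero]

theorem vadd_cancel {v w : Vm} (h : vadd v w = v) : w = (0, 0) := by
  have h1 := congrArg Prod.fst h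
  have h2 := congrArg Prod.snd h
  simp only [vadd] at h1 h2
  exact Prod.ext
    (by rw [← (wadd_zero w.1).2.1, ← (wadd_zero v.1).2.2, wadd_assoc, h1, (wadd_zero v.1).2.2])
    (by rw [← (wadd_zero w.2).2.1, ← (wadd_zero v.2).2.2, wadd_assoc, h2, (wadd_zero v.2).2.2])

variable {G : Type u} [Group G] [Finite G] {z : G} {Q : Subgroup G} {π : G → P3 × P6}

namespace Core

variable (C : Core z Q π)
include C

theorem conj_z {h : G} (hh : h * z = z * h) : h * z * h⁻¹ = z := by rw [hh, mul_inv_cancel_right]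

/-- A conjugate of `Q` depends only on the conjugate of `z`. -/
theorem Qc_congr {g g' x : G} (e : g * z * g⁻¹ = g' * z * g'⁻¹) (hx : x ∈ Qc Q g) : x ∈ Qc Q g' := by
  have hk : g'⁻¹ * g * z = z * (g'⁻¹ * g) := by
    calc g'⁻¹ * g * z = g'⁻¹ * (g * z * g⁻¹) * g := by group
      _ = z * (g'⁻¹ * g) := by rw [e]; group
  refine mem_Qc.2 ?_
  have := C.conjQ hk (mem_Qc.1 hx)
  rwa [show g'⁻¹ * g * (g⁻¹ * x * g) * (g'⁻¹ * g)⁻¹ = g'⁻¹ * x * g' by group] at this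

/-- Membership of a conjugate of `z` in a conjugate of `Q` is symmetric. -/
theorem symm_mem {g g' : G} (h : g * z * g⁻¹ ∈ Qc Q g') (hne : g * z * g⁻¹ ≠ g' * z * g'⁻¹) :
    g' * z * g'⁻¹ ∈ Qc Q g := by
  have h1 : g'⁻¹ * g * z * (g'⁻¹ * g)⁻¹ ∈ Q := by
    have := mem_Qc.1 h
    rwa [show g'⁻¹ * (g * z * g⁻¹) * g' = g'⁻¹ * g * z * (g'⁻¹ * g)⁻¹ by group] at this
  have h2 : g'⁻¹ * g * z * (g'⁻¹ * g)⁻¹ ≠ z := fun e => hne (by
    calc g * z * g⁻¹ = g' * (g'⁻¹ * g * z * (g'⁻¹ * g)⁻¹) * g'⁻¹ := by group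
      _ = g' * z * g'⁻¹ := by rw [e])
  have h3 := mem_Qc.1 (C.loc.mem_conj C.Q32 h1 h2)
  refine mem_Qc.2 ?_
  rwa [show (g'⁻¹ * g)⁻¹ * z * (g'⁻¹ * g) = g⁻¹ * (g' * z * g'⁻¹) * g by group] at h3

/-- The pair of a conjugate by an element of `C(z)`. -/
theorem pair_conj {g h : G} (P : Pair Q z g) (hh : h * z = z * h) : Pair Q z (h * g) := by
  have e : h * g * z * (h * g)⁻¹ = h * (g * z * g⁻¹) * h⁻¹ := by group
  refine ⟨C.loc, C.Q32, e ▸ C.conjQ hh P.mem, fun e' => P.ne ?_⟩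
  rw [e] at e'
  calc g * z * g⁻¹ = h⁻¹ * (h * (g * z * g⁻¹) * h⁻¹) * h := by group
    _ = h⁻¹ * (h * z * h⁻¹) * h := by rw [e', C.conj_z hh]
    _ = z := by group

end Core

namespace Coords

variable {vec : G → Vm} (D : Coords z Q π vec)
include D

theorem vec_one : vec 1 = (0, 0) := (D.zero 1 Q.one_mem).2 (Or.inl rfl)

theorem vec_z : vec z = (0, 0) := (D.zero z D.C.zQ).2 (Or.inr rfl)

theorem vec_inv {p : G} (hp : p ∈ Q) : vec p⁻¹ = vec p :=
  vadd_eq_zero.1 (by rw [← D.mul _ _ (Q.inv_mem hp) hp, inv_mul_cancel, D.vec_one])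

theorem veq {p r : G} (hp : p ∈ Q) (hr : r ∈ Q) (h : vec p = vec r) : r = p ∨ r = p * z := by
  have h0 := D.mul p (p⁻¹ * r) hp (Q.mul_mem (Q.inv_mem hp) hr)
  rw [mul_inv_cancel_left, ← h] at h0
  rcases (D.zero _ (Q.mul_mem (Q.inv_mem hp) hr)).1 (vadd_cancel h0.symm) with e | e
  · exact Or.inl (inv_mul_eq_one.1 e).symm
  · exact Or.inr (by rw [← e, mul_inv_cancel_left])

theorem vec_mulz {p : G} (hp : p ∈ Q) : vec (p * z) = vec p := by
  rw [D.mul p z hp D.C.zQ, D.vec_z, (vadd_zero _).1]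

theorem vec_comm {c p : G} (hc : c * z = z * c) (hp : p ∈ Q) :
    c * p * c⁻¹ * p⁻¹ ∈ Q ∧ vec (c * p * c⁻¹ * p⁻¹) = vadd (act (π c) (vec p)) (vec p) :=
  ⟨Q.mul_mem (D.C.conjQ hc hp) (Q.inv_mem hp),
    by rw [D.mul _ _ (D.C.conjQ hc hp) (Q.inv_mem hp), D.conj c p hc hp, D.vec_inv hp]⟩

theorem conj_slice {σ : P3} {τ : P6} {h p : G} {j : Fin 3} {y : W4} (hh : h * z = z * h) (hp : p ∈ Q)
    (e : π h = (σ, τ)) (hv : vec p = slice j y) : vec (h * p * h⁻¹) = slice (σ j) (wact τ y) := by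
  rw [D.conj h p hh hp, e, hv, act_slice]

/-- An element of `C(z)` that acts with order three on the first factor moves `a` modulo `z`. -/
theorem no_three {g : G} (P : Pair Q z g) (hO : Odd3 z Q π g) {σ : P3} {τ : P6} (h1 : Perm.sign σ = 1)
    (h2 : Perm.sign τ = 1) (hne : σ ≠ 1) : act (σ, τ) (vec (g * z * g⁻¹)) ≠ vec (g * z * g⁻¹) := by
  intro hfix
  obtain ⟨h, hh, e⟩ := D.C.ev σ τ h1 h2
  rw [← e, ← D.conj h _ hh P.mem] at hfix
  obtain ⟨k, hk, hka, hkπ⟩ := D.C.lift P.mem P.h'.toXSub.ne_one P.ne hh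
    (D.veq P.mem (D.C.conjQ hh P.mem) hfix.symm)
  obtain ⟨⟨ρ, r6⟩, hr, hρ⟩ := hO
  have h' := D.C.R_conj P hr hk hka
  rw [hkπ, e] at h'
  have hc := congrArg Prod.fst (D.C.R_comm P hr h')
  exact odd_three σ ρ h1 hne hρ (by simpa using hc)

theorem vec_ne_zero {g : G} (P : Pair Q z g) : vec (g * z * g⁻¹) ≠ (0, 0) := fun h =>
  ((D.zero _ P.mem).1 h).elim P.h'.toXSub.ne_one P.ne

/-- The conjugate may be taken to be the first pair in the first slice. -/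
theorem normalise {g : G} (P : Pair Q z g) (hO : Odd3 z Q π g) :
    ∃ g', Pair Q z g' ∧ Odd3 z Q π g' ∧ vec (g' * z * g'⁻¹) = ((1 : W4), (0 : W4)) := by
  have hq : qf (vec (g * z * g⁻¹)) = false := (D.sq _ P.mem).1 P.h'.toXSub.sq
  rcases nonpure _ hq (D.vec_ne_zero P) with ⟨j, y, e⟩ | ⟨τ, hτ, hfix⟩
  swap
  · exact absurd hfix (D.no_three P hO sign_x3.1 hτ sign_x3.2.2)
  have hy : y ≠ 0 := fun h => D.vec_ne_zero P (by rw [e, h, slice_zero])
  obtain ⟨σ, hσ, hσj⟩ := to_zero j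
  obtain ⟨τ, hτ, hτy⟩ := transitive y hy
  obtain ⟨h, hh, eh⟩ := D.C.ev σ τ⁻¹ hσ (by rw [map_inv, hτ, inv_one])
  refine ⟨h * g, D.C.pair_conj P hh, ?_, ?_⟩
  · obtain ⟨p, ⟨c, hc, hcz, rfl⟩, hp⟩ := hO
    refine ⟨_, ⟨h * c * h⁻¹, mem_Qc.2 ?_, conjz hh hcz, rfl⟩, ?_⟩
    · rw [show (h * g)⁻¹ * (h * c * h⁻¹) * (h * g) = g⁻¹ * c * g by group]
      exact mem_Qc.1 hc
    · rw [D.C.π_conj hh hcz, Prod.fst_mul, Prod.fst_mul, Prod.fst_inv, map_mul, map_mul, map_inv, hp, eh, hσ]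
      decide
  · rw [show h * g * z * (h * g)⁻¹ = h * (g * z * g⁻¹) * h⁻¹ by group, D.conj_slice hh P.mem eh e, hσj, ← hτy,
      ← wact_mul, inv_mul_cancel, wact_one]
    rfl

variable {g : G} (P : Pair Q z g) (ha : vec (g * z * g⁻¹) = ((1 : W4), (0 : W4)))
include P ha

theorem stab_lift {σ : P3} {τ : P6} (h1 : Perm.sign σ = 1) (h2 : Perm.sign τ = 1) (h3 : σ 0 = 0)
    (h4 : wact τ 1 = 1) : ∃ k, k * z = z * k ∧ k * (g * z * g⁻¹) = g * z * g⁻¹ * k ∧ π k = (σ, τ) := by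
  obtain ⟨h, hh, e⟩ := D.C.ev σ τ h1 h2
  have hv : vec (g * z * g⁻¹) = vec (h * (g * z * g⁻¹) * h⁻¹) := by
    rw [D.conj_slice (j := 0) (y := 1) hh P.mem e ha, h3, h4]
    exact ha
  obtain ⟨k, hk, hka, hkπ⟩ := D.C.lift P.mem P.h'.toXSub.ne_one P.ne hh (D.veq P.mem (D.C.conjQ hh P.mem) hv)
  exact ⟨k, hk, hka, hkπ.trans e⟩

theorem stab_shape {c : G} (hc : c * z = z * c) (hca : c * (g * z * g⁻¹) = g * z * g⁻¹ * c) :
    (π c).1 0 = 0 ∧ wact (π c).2 1 = 1 := by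
  have e := D.conj c _ hc P.mem
  rw [show c * (g * z * g⁻¹) * c⁻¹ = g * z * g⁻¹ by rw [hca, mul_inv_cancel_right], ha] at e
  have e' := act_slice (π c).1 (π c).2 0 1
  rw [show slice 0 1 = ((1 : W4), (0 : W4)) from rfl, ← e] at e'
  obtain ⟨h1, h2⟩ := slice_inj 0 ((π c).1 0) 1 (wact (π c).2 1) (by decide) e'
  exact ⟨h1.symm, h2.symm⟩

theorem R_shape {p : P3 × P6} (h : InR z Q π g p) : (p.1 = 1 ∨ p.1 = t0) ∧ p.2 ∈ eights := by
  have hsq := congrArg Prod.snd (D.C.R_sq P h)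
  obtain ⟨k, hk, hka, hkπ⟩ := D.stab_lift P ha (σ := 1) (τ := thS) (map_one _) thS_facts.1 rfl thS_facts.2
  have hcomm := congrArg Prod.snd (D.C.R_comm P h (D.C.R_conj P h hk hka))
  rw [hkπ] at hcomm
  obtain ⟨c, hc, hcz, rfl⟩ := h
  obtain ⟨h0, h1⟩ := D.stab_shape P ha hcz (D.C.Qa P hc)
  exact ⟨fix_zero _ h0, allowed _ h1 hsq hcomm⟩

theorem R_one : InR z Q π g 1 := ⟨1, one_mem _, by rw [one_mul, mul_one], D.C.π_one⟩

theorem R_theta {p : P3 × P6} (h : InR z Q π g p) : InR z Q π g (p.1, thS * p.2 * thS⁻¹) := by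
  obtain ⟨k, hk, hka, hkπ⟩ := D.stab_lift P ha (σ := 1) (τ := thS) (map_one _) thS_facts.1 rfl thS_facts.2
  have := D.C.R_conj P h hk hka
  rw [hkπ, show ((1 : P3), thS) * p * ((1 : P3), thS)⁻¹ = (p.1, thS * p.2 * thS⁻¹) from
    Prod.ext (by simp) (by simp)] at this
  exact this

theorem R_four : ∀ ν ∈ fours, InR z Q π g (1, ν) := by
  classical
  obtain ⟨p, hp, h1, h2⟩ : ∃ p, InR z Q π g p ∧ p.2 ≠ 1 ∧ p.2 ≠ tau0 := by
    by_contra hcon
    push Not at hcon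
    have hle : Nat.card {p // InR z Q π g p} ≤ Nat.card (Bool × Bool) := by
      refine Nat.card_le_card_of_injective (fun p => (decide (p.1.1 = 1), decide (p.1.2 = 1))) fun p p' e => ?_
      simp only [Prod.mk.injEq, decide_eq_decide] at e
      have a1 := (D.R_shape P ha p.2).1
      have b1 := (D.R_shape P ha p'.2).1
      refine Subtype.ext (Prod.ext ?_ ?_)
      · rcases a1 with a | a <;> rcases b1 with b | b
        · rw [a, b]
        · rw [a, e.1.1 a]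
        · rw [b, e.1.2 b]
        · rw [a, b]
      · by_cases a : p.1.2 = 1
        · rw [a, e.2.1 a]
        · rw [hcon _ p.2 a, hcon _ p'.2 fun b => a (e.2.2 b)]
    have := D.C.card_R P
    rw [Nat.card_prod, Nat.card_eq_fintype_card (α := Bool), Fintype.card_bool] at hle
    omega
  have hν : InR z Q π g (1, p.2 * (thS * p.2 * thS⁻¹)) := by
    have := D.C.R_mul P hp (D.R_theta P ha hp)
    have hsq : p.1 * p.1 = 1 := congrArg Prod.fst (D.C.R_sq P hp)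
    rw [show p * (p.1, thS * p.2 * thS⁻¹) = (p.1 * p.1, p.2 * (thS * p.2 * thS⁻¹)) from rfl, hsq] at this
    exact this
  intro ν hm
  rcases fours_orbit _ (eights_gen _ (D.R_shape P ha hp).2 h1 h2) ν hm with e | e | e <;> rw [e]
  exacts [hν, D.R_theta P ha hν, D.R_theta P ha (D.R_theta P ha hν)]

theorem R_odd (hO : Odd3 z Q π g) : ∃ τ, (τ = 1 ∨ τ = tau0) ∧ InR z Q π g (t0, τ) := by
  obtain ⟨⟨σ, τ⟩, hp, hs⟩ := hO
  obtain ⟨h1, h2⟩ := D.R_shape P ha hp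
  rcases h1 with e | e
  · simp only at e hs
    rw [e, map_one] at hs
    exact absurd hs (by decide)
  simp only at e h2
  subst e
  rcases eights_split τ h2 with h | ⟨ν, hν, h⟩
  · exact ⟨τ, h, hp⟩
  · have := D.C.R_mul P hp (D.R_four P ha ν hν)
    rw [Prod.mk_mul_mk, mul_one] at this
    exact ⟨τ * ν, h, this⟩

/-- Commutators of `Q_a ∩ C(z)` with the centralizer of `a` in `Q`. -/
theorem J_comm {p : P3 × P6} (h : InR z Q π g p) {v : Vm} (hv : beta 1 v.2 = false) :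
    ∃ i, i ∈ Q ∧ i ∈ Qc Q g ∧ vec i = vadd (act p v) v := by
  obtain ⟨c, hc, hcz, rfl⟩ := h
  obtain ⟨q, hq, rfl⟩ := D.surj v
  have hqa : q * (g * z * g⁻¹) = g * z * g⁻¹ * q := ((D.comm _ _ P.mem hq).2 (by
    rw [ha, bf, hv, (beta_self _).2.1]; rfl)).symm
  obtain ⟨h1, h2⟩ := D.vec_comm hcz hq
  refine ⟨c * q * c⁻¹ * q⁻¹, h1, ?_, h2⟩
  rw [show c * q * c⁻¹ * q⁻¹ = c * (q * c⁻¹ * q⁻¹) by group]
  exact (Qc Q g).mul_mem hc (D.C.Qc_norm hqa ((Qc Q g).inv_mem hc))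

/-- The intersection of `Q` and `Q_a`. -/
theorem inter_shape (hO : Odd3 z Q π g) {i : G} (hi : i ∈ Q) :
    i ∈ Qc Q g ↔ beta 1 (vec i).1 = false ∧ ((vec i).2 = 0 ∨ (vec i).2 = 1) := by
  classical
  obtain ⟨τ, hτ, hodd⟩ := D.R_odd P ha hO
  have J1 : ∀ y, beta 1 y = false → ∃ i, i ∈ Q ∧ i ∈ Qc Q g ∧ vec i = (y, (0 : W4)) := by
    intro y hy
    obtain ⟨i, h1, h2, h3⟩ := D.J_comm P ha hodd (v := slice 1 y) (show beta 1 y = false from hy)
    refine ⟨i, h1, h2, h3.trans ?_⟩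
    rw [act_slice, show wact τ y = y by
      rcases hτ with rfl | rfl
      exacts [wact_one y, tau0_perp y hy], (t0_slice y).1]
    exact Prod.ext (wadd_zero y).1 (wadd_zero y).2.2
  obtain ⟨i1, i1Q, i1g, i1v⟩ := D.J_comm P ha (D.R_four P ha (swap 2 3 * swap 4 5) (List.mem_cons_self ..))
    (v := ((0 : W4), pcode 3 4)) four_move.2
  rw [four_move.1] at i1v
  have J2 : ∀ (y : {y : W4 // beta 1 y = false}) (s : Bool), ∃ i, i ∈ Q ∧ i ∈ Qc Q g ∧
      vec i = (y.1, if s then (1 : W4) else 0) := by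
    intro y s
    obtain ⟨i, h1, h2, h3⟩ := J1 y.1 y.2
    cases s
    · exact ⟨i, h1, h2, h3⟩
    · refine ⟨i * i1, Q.mul_mem h1 i1Q, (Qc Q g).mul_mem h2 i1g, ?_⟩
      rw [D.mul _ _ h1 i1Q, h3, i1v]
      exact Prod.ext (wadd_zero _).1 (wadd_zero _).2.1
  let f : {y : W4 // beta 1 y = false} × Bool × Bool → ↥(Q ⊓ Qc Q g) := fun t =>
    ⟨(J2 t.1 t.2.1).choose * (if t.2.2 then z else 1), mul_mem
      ⟨(J2 t.1 t.2.1).choose_spec.1, (J2 t.1 t.2.1).choose_spec.2.1⟩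
      (by split_ifs; exacts [⟨D.C.zQ, P.z_mem'⟩, one_mem _])⟩
  have hf : ∀ t, vec (f t : G) = (t.1.1, if t.2.1 then (1 : W4) else 0) := by
    intro t
    obtain ⟨h1, -, h3⟩ := (J2 t.1 t.2.1).choose_spec
    show vec (_ * _) = _
    cases t.2.2
    · rw [if_neg Bool.false_ne_true, mul_one]; exact h3
    · rw [if_pos rfl, D.vec_mulz h1]; exact h3
  have hinj : Function.Injective f := by
    rintro ⟨y, s, e⟩ ⟨y', s', e'⟩ h
    have hv := congrArg (fun x : ↥(Q ⊓ Qc Q g) => vec (x : G)) h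
    simp only [hf, Prod.mk.injEq] at hv
    obtain ⟨hv1, hv2⟩ := hv
    obtain rfl : y = y' := Subtype.ext hv1
    obtain rfl : s = s' := by cases s <;> cases s' <;> first | rfl | simp at hv2
    have := mul_left_cancel (congrArg Subtype.val h : (J2 y s).choose * (if e then z else 1) =
      (J2 y s).choose * (if e' then z else 1))
    cases e <;> cases e' <;> simp_all [D.C.z1, Ne.symm D.C.z1]
  have hbij : Function.Bijective f := hinj.bijective_of_nat_card_le (by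
    refine (D.C.card_abelian (Q ⊓ Qc Q g) inf_le_left (D.C.inter_abelian P)).trans ?_
    rw [Nat.card_eq_fintype_card]
    decide +kernel)
  constructor
  · intro hi'
    obtain ⟨t, ht⟩ := hbij.2 ⟨i, hi, hi'⟩
    have := hf t
    rw [ht] at this
    rw [this]
    exact ⟨t.1.2, by cases t.2.1 <;> simp⟩
  · rintro ⟨h1, h2⟩
    obtain ⟨j, hj1, hj2, hj3⟩ := J2 ⟨_, h1⟩ (decide ((vec i).2 = 1))
    have : vec j = vec i := hj3.trans (Prod.ext rfl (by rcases h2 with e | e <;> simp [e]))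
    rcases D.veq hj1 hi this with e | e <;> rw [e]
    exacts [hj2, (Qc Q g).mul_mem hj2 P.z_mem']

end Coords

end Cfsg.Agent.SymSixCore
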