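import Cfsg.Agent.Lib.SymSixCore.Finite

/-!
The outer automorphism of the symmetric group of degree six, through its action on the six totals.
-/

set_option autoImplicit false
set_option maxRecDepth 10000

namespace Cfsg.Agent.SymSixCore

open Equiv

/-- The six totals. -/
def tot : Fin 6 → Finset P6 :=
  ![{swap 0 1 * swap 2 3 * swap 4 5, swap 0 2 * swap 1 4 * swap 3 5, swap 0 3 * swap 1 5 * swap 2 4, swap 0 4 * swap 1 3 * swap 2 5, swap 0 5 * swap 1 2 * swap 3 4},
    {swap 0 1 * swap 2 3 * swap 4 5, swap 0 2 * swap 1 5 * swap 3 4, swap 0 3 * swap 1 4 * swap 2 5, swap 0 4 * swap 1 2 * swap 3 5, swap 0 5 * swap 1 3 * swap 2 4},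
    {swap 0 1 * swap 2 4 * swap 3 5, swap 0 2 * swap 1 3 * swap 4 5, swap 0 3 * swap 1 4 * swap 2 5, swap 0 4 * swap 1 5 * swap 2 3, swap 0 5 * swap 1 2 * swap 3 4},
    {swap 0 1 * swap 2 4 * swap 3 5, swap 0 2 * swap 1 5 * swap 3 4, swap 0 3 * swap 1 2 * swap 4 5, swap 0 4 * swap 1 3 * swap 2 5, swap 0 5 * swap 1 4 * swap 2 3},
    {swap 0 1 * swap 2 5 * swap 3 4, swap 0 2 * swap 1 3 * swap 4 5, swap 0 3 * swap 1 5 * swap 2 4, swap 0 4 * swap 1 2 * swap 3 5, swap 0 5 * swap 1 4 * swap 2 3},
    {swap 0 1 * swap 2 5 * swap 3 4, swap 0 2 * swap 1 4 * swap 3 5, swap 0 3 * swap 1 2 * swap 4 5, swap 0 4 * swap 1 5 * swap 2 3, swap 0 5 * swap 1 3 * swap 2 4}]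

/-- The image of a total. -/
def totImage (g : P6) (s : Finset P6) : Finset P6 := s.image fun p => g * p * g⁻¹

/-- The action on the totals. -/
def tidx (g : P6) (j : Fin 6) : Fin 6 :=
  ((List.finRange 6).find? fun i => decide (totImage g (tot j) = tot i)).getD 0

theorem tot_inj : ∀ i j : Fin 6, tot i = tot j → i = j := by decide +kernel

set_option maxHeartbeats 4000000 in
theorem tot_swap : ∀ (a b j : Fin 6), ∃ i, totImage (swap a b) (tot j) = tot i := by decide +kernel

theorem totImage_mul (g h : P6) (s : Finset P6) : totImage (g * h) s = totImage g (totImage h s) := by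
  simp only [totImage, Finset.image_image]
  refine Finset.image_congr fun p _ => ?_
  simp [mul_assoc]

theorem totImage_one (s : Finset P6) : totImage 1 s = s := by simp [totImage]

theorem tot_perm (g : P6) : ∀ j, ∃ i, totImage g (tot j) = tot i := by
  induction g using Equiv.Perm.swap_induction_on with
  | one => exact fun j => ⟨j, totImage_one _⟩
  | swap_mul f a b _ ih =>
    intro j
    obtain ⟨i, hi⟩ := ih j
    obtain ⟨k, hk⟩ := tot_swap a b i
    exact ⟨k, by rw [totImage_mul, hi, hk]⟩

theorem tidx_spec (g : P6) (j : Fin 6) : totImage g (tot j) = tot (tidx g j) := by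
  obtain ⟨i, hi⟩ := tot_perm g j
  cases hf : (List.finRange 6).find? fun i => decide (totImage g (tot j) = tot i) with
  | none =>
    rw [List.find?_eq_none] at hf
    simpa [hi] using hf i (List.mem_finRange i)
  | some k =>
    have := List.find?_some hf
    rw [tidx, hf]
    simpa using this

theorem tidx_mul (g h : P6) (j : Fin 6) : tidx (g * h) j = tidx g (tidx h j) :=
  tot_inj _ _ (by rw [← tidx_spec, totImage_mul, tidx_spec h, tidx_spec g])

theorem tidx_one (j : Fin 6) : tidx 1 j = j := tot_inj _ _ (by rw [← tidx_spec, totImage_one])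

/-- The permutation of the totals. -/
def outerPerm (g : P6) : P6 where
  toFun := tidx g
  invFun := tidx g⁻¹
  left_inv j := by rw [← tidx_mul, inv_mul_cancel, tidx_one]
  right_inv j := by rw [← tidx_mul, mul_inv_cancel, tidx_one]

/-- The homomorphism. -/
def outerHom : P6 →* P6 := MonoidHom.mk' outerPerm fun g h => Equiv.ext (tidx_mul g h)

set_option maxHeartbeats 4000000 in
theorem outer_ker : ∀ g : P6, (∀ j, tidx g j = j) → g = 1 := by decide +kernel

theorem outer_injective : Function.Injective outerHom := (injective_iff_map_eq_one _).2 fun g hg =>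
  outer_ker g fun j => congrArg (fun e : P6 => e j) hg

/-- The automorphism. -/
noncomputable def outer : P6 ≃* P6 :=
  MulEquiv.ofBijective outerHom (Finite.injective_iff_bijective.1 outer_injective)

theorem outer_apply (g : P6) : outer g = outerPerm g := rfl

set_option maxHeartbeats 4000000 in
theorem sign_swap : ∀ a b : Fin 6, Perm.sign (outerPerm (swap a b)) = Perm.sign (swap a b) := by decide +kernel

theorem sign_outer (g : P6) : Perm.sign (outer g) = Perm.sign g := by
  induction g using Equiv.Perm.swap_induction_on with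
  | one => simp
  | swap_mul f a b _ ih => rw [map_mul, map_mul, map_mul, ih, outer_apply, sign_swap]

end Cfsg.Agent.SymSixCore
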