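import Cfsg.Agent.Lib.SymSixCore.Moved
import Cfsg.Agent.Lib.SymSixCore.Outer

/-!
In the fixed point free case some vector is fixed by the stabiliser in `A₆` of a pair of points, after a
possible change of the second factor by an automorphism.
-/

set_option autoImplicit false
set_option linter.style.haveILetI false
set_option linter.unusedSectionVars false

namespace Cfsg.Agent.SymSixCore

open Equiv Cfsg Cfsg.Agent.LargeExtra

universe u

/-- An involution inverting `jj`. -/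
def kk : P6 := swap 3 4 * swap 2 5
/-- Normalizes the four-group of the first kind. -/
def tha : P6 := swap 0 3 * swap 3 2 * (swap 1 4 * swap 4 5)
/-- Normalizes the four-group of the second kind. -/
def thb : P6 := swap 0 1 * swap 1 3
/-- The change of labels in the first case. -/
def rhoA : P6 := swap 0 2 * swap 2 4 * (swap 1 3 * swap 3 5)
/-- The change of labels in the second case. -/
def rhoB : P6 := swap 0 2 * (swap 1 3 * swap 3 4 * swap 4 5)

theorem kk_rel : kk * kk = 1 ∧ jj * kk * jj = kk ∧ Perm.sign kk = 1 ∧ Perm.sign tha = 1 ∧ Perm.sign thb = 1 ∧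
    tha * tha * tha = 1 ∧ thb * thb * thb = 1 := by decide +kernel

theorem four_a : jj * jj * kk = kk * (jj * jj) ∧ tha⁻¹ * (jj * jj) * tha ∈ ([jj * jj, kk, jj * jj * kk] : List P6) ∧
    tha⁻¹ * kk * tha ∈ ([jj * jj, kk, jj * jj * kk] : List P6) ∧
    tha * (jj * jj) * tha⁻¹ ∈ ([kk, jj * jj * kk] : List P6) ∧
    (∃ p ∈ ([jj, kk, jj * kk, jj * jj * jj, jj * jj * jj * kk, jj * jj, jj * jj * kk] : List P6),
      ∃ f ∈ ([1, jj * jj, kk, jj * jj * kk] : List P6), p * tha = tha * tha * f * p) := by decide +kernel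

theorem four_b : jj * jj * (jj * kk) = jj * kk * (jj * jj) ∧
    thb⁻¹ * (jj * jj) * thb ∈ ([jj * jj, jj * kk, jj * jj * (jj * kk)] : List P6) ∧
    thb⁻¹ * (jj * kk) * thb ∈ ([jj * jj, jj * kk, jj * jj * (jj * kk)] : List P6) ∧
    thb * (jj * jj) * thb⁻¹ ∈ ([jj * kk, jj * jj * (jj * kk)] : List P6) ∧
    (∃ p ∈ ([jj, kk, jj * kk, jj * jj * jj, jj * jj * jj * kk, jj * jj, jj * jj * kk] : List P6),
      ∃ f ∈ ([1, jj * jj, jj * kk, jj * jj * (jj * kk)] : List P6), p * thb = thb * thb * f * p) := by decide +kernel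

theorem words_nine : th1 = jj * jj * (tha * (tha * (thb * kk * thb⁻¹) * tha⁻¹) * tha⁻¹) ∧
    th2 = jj * jj * (tha * (thb * (thb * kk * thb⁻¹) * thb⁻¹) * tha⁻¹) := by decide +kernel

set_option maxHeartbeats 4000000 in
theorem stab_words_a : ∀ τ : P6, Perm.sign τ = 1 → wact τ 1 = 1 →
    let φ : P6 → P6 := fun g => rhoA * outerPerm g * rhoA⁻¹
    ∃ a : Fin 4, ∃ b : Fin 2, ∃ d : Fin 3, τ = φ tha ^ (d : ℕ) * (φ jj ^ (a : ℕ) * φ kk ^ (b : ℕ)) := by
  decide +kernel

set_option maxHeartbeats 4000000 in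
theorem stab_words_b : ∀ τ : P6, Perm.sign τ = 1 → wact τ 1 = 1 →
    let φ : P6 → P6 := fun g => rhoB * g * rhoB⁻¹
    ∃ a : Fin 4, ∃ b : Fin 2, ∃ d : Fin 3, τ = φ thb ^ (d : ℕ) * (φ jj ^ (a : ℕ) * φ kk ^ (b : ℕ)) := by
  decide +kernel

set_option maxHeartbeats 4000000 in
theorem jj_stab : wact (rhoA * outerPerm jj * rhoA⁻¹) 1 = 1 ∧ wact (rhoB * jj * rhoB⁻¹) 1 = 1 ∧
    Perm.sign (rhoA * outerPerm jj * rhoA⁻¹) = 1 ∧ Perm.sign (rhoB * jj * rhoB⁻¹) = 1 := by decide +kernel

variable {G : Type u} [Group G] [Finite G] {z : G} {Q : Subgroup G} {π : G → P3 × P6}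
variable {V : Type u} [AddCommGroup V] {v : G → V} {A : P3 × P6 → V →+ V} {q : V → Bool} {B : V → V → Bool}

/-- Changing the second factor by an automorphism. -/
theorem Space.relabel (S : Space z Q π V v A q B) (β : P6 ≃* P6) (hβ : ∀ τ, Perm.sign (β τ) = Perm.sign τ) :
    Space z Q (fun h => ((π h).1, β (π h).2)) V v (fun p => A (p.1, β.symm p.2)) q B where
  C :=
    { loc := S.C.loc
      card := S.C.card
      π_mul := fun a b ha hb => by
        show ((π (a * b)).1, β (π (a * b)).2) = _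
        rw [S.C.π_mul a b ha hb]
        exact Prod.ext rfl (map_mul β _ _)
      π_ker := fun h hh => by
        rw [← S.C.π_ker h hh, Prod.ext_iff, Prod.ext_iff]
        exact and_congr_right fun _ => map_eq_one_iff β β.injective
      ev := fun σ τ h1 h2 => by
        obtain ⟨h, hh, e⟩ := S.C.ev σ (β.symm τ) h1 (by rw [← hβ, β.apply_symm_apply, h2])
        exact ⟨h, hh, by rw [e]; exact Prod.ext rfl (β.apply_symm_apply τ)⟩
      odd := S.C.odd
      res := S.C.res }
  v_mul := S.v_mul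
  v_zero := S.v_zero
  v_surj := S.v_surj
  two := S.two
  card := S.card
  act := fun h p hh hp => by
    rw [S.act h p hh hp]
    show A (π h) (v p) = A ((π h).1, β.symm (β (π h).2)) (v p)
    rw [β.symm_apply_apply]
  sq := S.sq
  comm := S.comm

theorem Odd3.relabel {g : G} (h : Odd3 z Q π g) (β : P6 ≃* P6) :
    Odd3 z Q (fun h => ((π h).1, β (π h).2)) g := by
  obtain ⟨p, ⟨c, hc, hcz, e⟩, hp⟩ := h
  exact ⟨(p.1, β p.2), ⟨c, hc, hcz, by rw [← e]⟩, hp⟩

namespace Space

variable (S : Space z Q π V v A q B) (M : Monomial (A (x3, 1)) (A (1, th1)) (A (1, th2)) (A (1, jj)))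
include S

/-- The element fixes the vector. -/
def Fx (A : P3 × P6 → V →+ V) (τ : P6) (w : V) : Prop := Perm.sign τ = 1 ∧ A (1, τ) w = w

theorem fx_mul {τ τ' : P6} {w : V} (h : Fx A τ w) (h' : Fx A τ' w) : Fx A (τ * τ') w :=
  ⟨by rw [map_mul, h.1, h'.1, one_mul], by rw [← S.A6 h.1 h'.1, h'.2, h.2]⟩

theorem fx_one (w : V) : Fx A 1 w := ⟨map_one _, S.A_one w⟩

theorem fx_pow {τ : P6} {w : V} (h : Fx A τ w) (n : ℕ) : Fx A (τ ^ n) w := by
  induction n with
  | zero => exact S.fx_one w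
  | succ n ih => rw [pow_succ]; exact S.fx_mul ih h

theorem fx_conj {τ p : P6} {w : V} (hp : Perm.sign p = 1) (h : Fx A τ (A (1, p⁻¹) w)) : Fx A (p * τ * p⁻¹) w := by
  have hpi : Perm.sign p⁻¹ = 1 := by rw [map_inv, hp, inv_one]
  refine ⟨by simp [map_mul, map_inv, h.1, hp], ?_⟩
  rw [mul_assoc, ← S.A6 hp (by rw [map_mul, h.1, hpi, one_mul]), ← S.A6 h.1 hpi, h.2, S.A6 hp hpi, mul_inv_cancel]
  exact S.A_one w

theorem fx_map {τ p : P6} {w : V} (hτ : Perm.sign τ = 1) (hp : Perm.sign p = 1) (h : Fx A (p⁻¹ * τ * p) w) :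
    Fx A τ (A (1, p) w) := by
  refine ⟨hτ, ?_⟩
  rw [S.A6 hτ hp, show τ * p = p * (p⁻¹ * τ * p) by group, ← S.A6 hp h.1, h.2]

theorem cx {τ : P6} (hτ : Perm.sign τ = 1) (w : V) : A (x3, 1) (A (1, τ) w) = A (1, τ) (A (x3, 1) w) := by
  rw [← S.A_ev sign_x3.1 (map_one _) (map_one _) hτ, ← S.A_ev (map_one _) hτ sign_x3.1 (map_one _)]; simp

include M in
/-- The alternative at a four-group. -/
theorem four_alt {n : V} (hn0 : n ≠ 0) (hJ : Fx A jj n) (hK : Fx A kk n) {θ k2 : P6} (hθ : Perm.sign θ = 1)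
    (hθ3 : θ * θ * θ = 1)
    (h2 : k2 ∈ ([kk, jj * kk] : List P6)) (hcom : jj * jj * k2 = k2 * (jj * jj))
    (hm1 : θ⁻¹ * (jj * jj) * θ ∈ ([jj * jj, k2, jj * jj * k2] : List P6))
    (hm2 : θ⁻¹ * k2 * θ ∈ ([jj * jj, k2, jj * jj * k2] : List P6))
    (hinv : ∃ p ∈ ([jj, kk, jj * kk, jj * jj * jj, jj * jj * jj * kk, jj * jj, jj * jj * kk] : List P6),
      ∃ f ∈ ([1, jj * jj, k2, jj * jj * k2] : List P6), p * θ = θ * θ * f * p) :
    Fx A θ n ∨ ((∀ w, Fx A (jj * jj) w → Fx A k2 w) ∧ ∀ w, Fx A (jj * jj) w → Fx A (jj * jj) (A (1, θ) w)) := by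
  classical
  haveI : Finite V := Nat.finite_of_card_ne_zero (by rw [S.card]; norm_num)
  have hk2 : Perm.sign k2 = 1 ∧ Fx A k2 n := by
    simp only [List.mem_cons, List.not_mem_nil, or_false] at h2
    rcases h2 with rfl | rfl
    exacts [⟨hK.1, hK⟩, ⟨(S.fx_mul hJ hK).1, S.fx_mul hJ hK⟩]
  have hjj : Fx A (jj * jj) n := S.fx_mul hJ hJ
  set X := A (x3, 1) with hX
  have N := S.nine
  have hline : ∀ w, Fx A jj w → w = 0 ∨ w = n ∨ w = X n ∨ w = X (X n) := by
    obtain ⟨n', -, hn', hl⟩ := M.lineJ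
    intro w hw
    have hX3 := N.X3
    rcases hl n hJ.2 with e | e | e | e
    · exact absurd e hn0
    all_goals rcases hl w hw.2 with e' | e' | e' | e' <;> subst e e' <;> simp [hX, hX3]
  have hF : ∀ f ∈ ([1, jj * jj, k2, jj * jj * k2] : List P6), Fx A f n := by
    intro f hf
    simp only [List.mem_cons, List.not_mem_nil, or_false] at hf
    rcases hf with rfl | rfl | rfl | rfl
    exacts [S.fx_one n, hjj, hk2.2, S.fx_mul hjj hk2.2]
  have hXfx : ∀ {τ w}, Fx A τ w → Fx A τ (X w) := fun {τ w} h => ⟨h.1, by rw [hX, ← S.cx h.1, h.2]⟩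
  have hθn : Fx A (jj * jj) (A (1, θ) n) ∧ Fx A k2 (A (1, θ) n) :=
    ⟨S.fx_map hjj.1 hθ (hF _ (List.mem_cons_of_mem _ hm1)), S.fx_map hk2.1 hθ (hF _ (List.mem_cons_of_mem _ hm2))⟩
  set m := A (1, θ) n with hm
  by_cases hl : m = n ∨ m = X n ∨ m = X (X n)
  · left
    refine ⟨hθ, ?_⟩
    rcases hl with e | e
    · exact e
    exfalso
    obtain ⟨p, hp, f, hf, e'⟩ := hinv
    have hpn : Fx A p n := by
      simp only [List.mem_cons, List.not_mem_nil, or_false] at hp
      rcases hp with rfl | rfl | rfl | rfl | rfl | rfl | rfl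
      exacts [hJ, hK, S.fx_mul hJ hK, S.fx_mul hjj hJ, S.fx_mul (S.fx_mul hjj hJ) hK, hjj, S.fx_mul hjj hK]
    have hfn := hF f hf
    have hθ2 : Perm.sign (θ * θ) = 1 := by rw [map_mul, hθ, one_mul]
    have e1 : A (1, p) m = A (1, θ) m := by
      rw [hm, S.A6 hpn.1 hθ, e', ← S.A6 (by rw [map_mul, hθ2, hfn.1, one_mul]) hpn.1, hpn.2, ← S.A6 hθ2 hfn.1,
        hfn.2, ← S.A6 hθ hθ]
    have hX3 := N.X3
    have hne : X n ≠ n := fun h => hn0 (by
      have := M.moved n
      rwa [h, h, N.three] at this)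
    have hθX : ∀ w, A (1, θ) (X w) = X (A (1, θ) w) := fun w => (S.cx hθ w).symm
    have hpX : ∀ w, A (1, p) (X w) = X (A (1, p) w) := fun w => (S.cx hpn.1 w).symm
    rcases e with e | e <;> rw [e] at e1
    · rw [hpX, hpn.2, hθX, ← hm, e] at e1
      exact hne (by
        have h4 := congrArg X (congrArg X e1)
        rw [hX3] at h4
        exact h4.symm)
    · rw [hpX, hpX, hpn.2, hθX, hθX, ← hm, e, hX3] at e1
      exact hne (by
        have h4 := congrArg X (congrArg X e1)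
        rw [hX3, hX3] at h4
        exact h4)
  · right
    push Not at hl
    have hm0 : m ≠ 0 := fun h => hn0 (by
      have h4 := congrArg (A (1, θ * θ)) h
      rw [hm, map_zero, S.A6 (by rw [map_mul, hθ, one_mul]) hθ, hθ3] at h4
      exact (S.A_one n).symm.trans h4)
    let L : Type u := {w : V // Fx A (jj * jj) w ∧ Fx A k2 w}
    let O : Fin 4 × Fin 4 → L := fun p => ⟨op X p.1 n + op X p.2 m, by
      have ho : ∀ (c : Fin 4) (w : V), Fx A (jj * jj) w → Fx A k2 w →
          Fx A (jj * jj) (op X c w) ∧ Fx A k2 (op X c w) := by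
        intro c w h1 h2
        fin_cases c
        exacts [⟨⟨h1.1, map_zero _⟩, ⟨h2.1, map_zero _⟩⟩, ⟨h1, h2⟩, ⟨hXfx h1, hXfx h2⟩,
          ⟨hXfx (hXfx h1), hXfx (hXfx h2)⟩]
      obtain ⟨a1, a2⟩ := ho p.1 n hjj hk2.2
      obtain ⟨b1, b2⟩ := ho p.2 m hθn.1 hθn.2
      exact ⟨⟨a1.1, by rw [map_add, a1.2, b1.2]⟩, ⟨a2.1, by rw [map_add, a2.2, b2.2]⟩⟩⟩
    have hO : Function.Injective O := by
      intro p p' h
      have h' : op X p.1 n + op X p.2 m = op X p'.1 n + op X p'.2 m := congrArg Subtype.val h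
      have hop : ∀ w, w ≠ 0 → Function.Injective fun c => op X c w := fun w hw => by
        have hwm := M.moved w
        have a1 : X w ≠ 0 := fun h => hw (by rw [← N.X3 w, h, map_zero, map_zero])
        have a2 : X (X w) ≠ 0 := fun h => hw (by rw [← N.X3 w, h, map_zero])
        have a3 : X w ≠ w := fun h => hw (by rwa [h, h, N.three] at hwm)
        have a4 : X (X w) ≠ w := fun h => a3 (by
          have h4 := congrArg X h; rw [N.X3] at h4; exact h4.symm)
        have a5 : X (X w) ≠ X w := fun h => a3 (by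
          have h4 := congrArg X (congrArg X h); rwa [N.X3, N.X3] at h4)
        intro c d h
        fin_cases c <;> fin_cases d <;>
          simp [op, hw, a1, a2, a3, a4, a5, hw.symm, a1.symm, a2.symm, a3.symm, a4.symm, a5.symm] at h ⊢
      -- the difference is a combination
      have hsum : ∀ c d : Fin 4, ∃ e : Fin 4, op X c n + op X d n = op X e n := fun c d => by
        have := M.moved n
        have e1 : n + X n = X (X n) := add_right_cancel (this.trans (S.two (X (X n))).symm)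
        have e2 : n + X (X n) = X n := by rw [← e1, ← add_assoc, S.two, zero_add]
        have e3 : X n + X (X n) = n := by rw [← e1, add_comm n, ← add_assoc, S.two, zero_add]
        fin_cases c <;> fin_cases d
        all_goals first
          | (refine ⟨0, ?_⟩; simp [op, S.two]; done)
          | (refine ⟨1, ?_⟩; simp [op, e3, add_comm (X (X n)) (X n)]; done)
          | (refine ⟨2, ?_⟩; simp [op, e2, add_comm (X (X n)) n]; done)
          | (refine ⟨3, ?_⟩; simp [op, e1, add_comm (X n) n]; done)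
      have hp2 : p.2 = p'.2 := by
        by_contra hne
        obtain ⟨e, he⟩ := hsum p.1 p'.1
        have : op X e n = op X p.2 m + op X p'.2 m := by
          rw [← he]
          calc op X p.1 n + op X p'.1 n = (op X p.1 n + op X p.2 m) + (op X p.2 m + op X p'.1 n) := by
                rw [show op X p.1 n + op X p.2 m + (op X p.2 m + op X p'.1 n) =
                  op X p.1 n + op X p'.1 n + (op X p.2 m + op X p.2 m) by abel, S.two, add_zero]
            _ = _ := by
                rw [h', show op X p'.1 n + op X p'.2 m + (op X p.2 m + op X p'.1 n) =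
                  op X p.2 m + op X p'.2 m + (op X p'.1 n + op X p'.1 n) by abel, S.two, add_zero]
        have hsm : ∀ c d : Fin 4, c ≠ d → ∃ r : Fin 3, op X c m + op X d m = pw X r m := fun c d hcd => by
          have := M.moved m
          have e1 : m + X m = X (X m) := add_right_cancel (this.trans (S.two (X (X m))).symm)
          have e2 : m + X (X m) = X m := by rw [← e1, ← add_assoc, S.two, zero_add]
          have e3 : X m + X (X m) = m := by rw [← e1, add_comm m, ← add_assoc, S.two, zero_add]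
          fin_cases c <;> fin_cases d
          all_goals first
            | exact absurd rfl hcd
            | (refine ⟨0, ?_⟩; simp [op, pw, e3, add_comm (X (X m)) (X m)]; done)
            | (refine ⟨1, ?_⟩; simp [op, pw, e2, add_comm (X (X m)) m]; done)
            | (refine ⟨2, ?_⟩; simp [op, pw, e1, add_comm (X m) m]; done)
        obtain ⟨r, hr⟩ := hsm _ _ hne
        rw [hr] at this
        have hm' : m = pw X (-r) (op X e n) := by
          rw [this, N.pw_pw, neg_add_cancel]; rfl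
        have : ∀ (e : Fin 4) (r : Fin 3), pw X r (op X e n) = 0 ∨ pw X r (op X e n) = n ∨
            pw X r (op X e n) = X n ∨ pw X r (op X e n) = X (X n) := by
          intro e r
          fin_cases e <;> fin_cases r <;> simp [op, pw, N.X3, hX]
        rcases this e (-r) with f | f | f | f <;> rw [← hm'] at f
        exacts [hm0 f, hl.1 f, hl.2.1 f, hl.2.2 f]
      refine Prod.ext (hop n hn0 ?_) hp2
      rw [hp2] at h'
      exact add_right_cancel h'
    have hle : Nat.card (Fin 4 × Fin 4) ≤ Nat.card L := Nat.card_le_card_of_injective O hO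
    let ι : L → {w : V // A (1, jj) (A (1, jj) w) = w} := fun w => ⟨w.1, by rw [S.A6 hJ.1 hJ.1]; exact w.2.1.2⟩
    have hι : Function.Injective ι := fun a b h => Subtype.ext (congrArg Subtype.val h :)
    have hbij := hι.bijective_of_nat_card_le (by rw [M.cardJJ]; simpa using hle)
    have all2 : ∀ w, Fx A (jj * jj) w → Fx A k2 w := fun w hw => by
      obtain ⟨l, hl'⟩ := hbij.2 ⟨w, by rw [S.A6 hJ.1 hJ.1]; exact hw.2⟩
      have e : (l : V) = w := congrArg Subtype.val hl'
      exact e ▸ l.2.2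
    refine ⟨all2, fun w hw => S.fx_map hjj.1 hθ ?_⟩
    have hw2 := all2 w hw
    simp only [List.mem_cons, List.not_mem_nil, or_false] at hm1
    rcases hm1 with e | e | e <;> rw [e]
    exacts [hw, hw2, S.fx_mul hw hw2]

include M in
/-- A vector fixed by one of the two stabilisers. -/
theorem exists_fixed : ∃ n, n ≠ 0 ∧ Fx A jj n ∧ Fx A kk n ∧ (Fx A tha n ∨ Fx A thb n) := by
  obtain ⟨n, hn0, hn, -⟩ := M.lineJ
  obtain ⟨k2, kjk, skk, sa, sb, a3, b3⟩ := kk_rel
  obtain ⟨-, -, -, -, -, -, s1, -, sj⟩ := nine_rel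
  have hJ : Fx A jj n := ⟨sj, hn⟩
  obtain ⟨n', hn', hl⟩ : ∃ n', Fx A jj n' ∧ ∀ w, Fx A jj w → w = 0 ∨ w = n' ∨ w = A (x3, 1) n' ∨
      w = A (x3, 1) (A (x3, 1) n') := by
    obtain ⟨n', -, hn', hl⟩ := M.lineJ
    exact ⟨n', ⟨sj, hn'⟩, fun w hw => hl w hw.2⟩
  have hX3 := S.nine.X3
  have hline : ∀ w, Fx A jj w → w = 0 ∨ w = n ∨ w = A (x3, 1) n ∨ w = A (x3, 1) (A (x3, 1) n) := by
    intro w hw
    rcases hl n hJ with e | e | e | e
    · exact absurd e hn0
    all_goals rcases hl w hw with e' | e' | e' | e' <;> subst e e' <;> simp [hX3]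
  have hK : Fx A kk n := by
    refine ⟨skk, ?_⟩
    have hk : Fx A jj (A (1, kk) n) := by
      refine S.fx_map sj skk ?_
      have e : kk⁻¹ * jj * kk = jj ^ 3 := by decide +kernel
      rw [e]; exact S.fx_pow hJ 3
    have hne : A (x3, 1) n ≠ n := fun h => hn0 (by
      have := M.moved n
      rwa [h, h, S.nine.three] at this)
    have hkk : A (1, kk) (A (1, kk) n) = n := by rw [S.A6 skk skk, k2]; exact S.A_one n
    rcases hline _ hk with e | e | e | e
    · rw [e, map_zero] at hkk; exact absurd hkk.symm hn0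
    · exact e
    · rw [e, ← S.cx skk, e] at hkk
      exact absurd (by
        have h := congrArg (A (x3, 1)) hkk; rw [hX3] at h; exact h.symm) hne
    · rw [e, ← S.cx skk, ← S.cx skk, e, hX3] at hkk
      exact absurd hkk hne
  refine ⟨n, hn0, hJ, hK, ?_⟩
  obtain ⟨ca, ma1, ma2, -, ia⟩ := four_a
  obtain ⟨cb, mb1, mb2, -, ib⟩ := four_b
  rcases S.four_alt M hn0 hJ hK sa a3 (k2 := kk) (by simp) ca ma1 ma2 ia with h | ⟨hka, hta⟩
  · exact Or.inl h
  rcases S.four_alt M hn0 hJ hK sb b3 (k2 := jj * kk) (by simp) cb mb1 mb2 ib with h | ⟨-, htb⟩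
  · exact Or.inr h
  exfalso
  have hjj : Fx A (jj * jj) n := S.fx_mul hJ hJ
  have hai : Perm.sign tha⁻¹ = 1 := by rw [map_inv, sa, inv_one]
  have hbi : Perm.sign thb⁻¹ = 1 := by rw [map_inv, sb, inv_one]
  have ai : tha⁻¹ = tha * tha := inv_eq_of_mul_eq_one_left (by rw [a3])
  have bi : thb⁻¹ = thb * thb := inv_eq_of_mul_eq_one_left (by rw [b3])
  have hta' : ∀ w, Fx A (jj * jj) w → Fx A (jj * jj) (A (1, tha⁻¹) w) := fun w hw => by
    rw [ai, ← S.A6 sa sa]; exact hta _ (hta _ hw)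
  have htb' : ∀ w, Fx A (jj * jj) w → Fx A (jj * jj) (A (1, thb⁻¹) w) := fun w hw => by
    rw [bi, ← S.A6 sb sb]; exact htb _ (htb _ hw)
  have p1 : ∀ w, Fx A (jj * jj) w → Fx A (thb * kk * thb⁻¹) w := fun w hw => S.fx_conj sb (hka _ (htb' _ hw))
  have h1 : Fx A th1 n := by
    rw [words_nine.1]
    exact S.fx_mul hjj (S.fx_conj sa (S.fx_conj sa (p1 _ (hta' _ (hta' _ hjj)))))
  have h2 : Fx A th2 n := by
    rw [words_nine.2]
    exact S.fx_mul hjj (S.fx_conj sa (S.fx_conj sb (p1 _ (htb' _ (hta' _ hjj)))))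
  exact hn0 (M.free n h1.2 h2.2)

/-- Existence of a labelling in which a pair stabiliser fixes a vector. -/
theorem exists_point {g : G} (P : Pair Q z g) (hO : Odd3 z Q π g) :
    ∃ (π' : G → P3 × P6) (A' : P3 × P6 → V →+ V), Space z Q π' V v A' q B ∧ Odd3 z Q π' g ∧
      (∀ h, (π' h).1 = (π h).1) ∧
      ∃ w, w ≠ 0 ∧ (∀ τ, Perm.sign τ = 1 → wact τ 1 = 1 → A' (1, τ) w = w) ∧
        ∀ u, (∀ τ, Perm.sign τ = 1 → wact τ 1 = 1 → A' (1, τ) u = u) →
          u = 0 ∨ u = w ∨ u = A' (x3, 1) w ∨ u = A' (x3, 1) (A' (x3, 1) w) := by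
  have M := S.moved P hO
  obtain ⟨n, hn0, hJ, hK, hθ⟩ := S.exists_fixed M
  suffices key : ∀ (β : P6 ≃* P6), (∀ τ, Perm.sign (β τ) = Perm.sign τ) →
      (∀ τ, Perm.sign τ = 1 → wact τ 1 = 1 → Fx A (β.symm τ) n) →
      wact (β jj) 1 = 1 →
      ∃ (π' : G → P3 × P6) (A' : P3 × P6 → V →+ V), Space z Q π' V v A' q B ∧ Odd3 z Q π' g ∧
      (∀ h, (π' h).1 = (π h).1) ∧
      ∃ w, w ≠ 0 ∧ (∀ τ, Perm.sign τ = 1 → wact τ 1 = 1 → A' (1, τ) w = w) ∧
        ∀ u, (∀ τ, Perm.sign τ = 1 → wact τ 1 = 1 → A' (1, τ) u = u) →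
          u = 0 ∨ u = w ∨ u = A' (x3, 1) w ∨ u = A' (x3, 1) (A' (x3, 1) w) by
    have conjsign : ∀ (r : P6) τ, Perm.sign (MulAut.conj r τ) = Perm.sign τ := fun r τ => by
      rw [MulAut.conj_apply, map_mul, map_mul, map_inv, mul_comm, ← mul_assoc, inv_mul_cancel, one_mul]
    rcases hθ with h | h
    · refine key (outer.trans (MulAut.conj rhoA)) (fun τ => by
        rw [MulEquiv.trans_apply, conjsign, sign_outer]) (fun τ h1 h2 => ?_) ?_
      · obtain ⟨a, b, d, e⟩ := stab_words_a τ h1 h2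
        have : (outer.trans (MulAut.conj rhoA)).symm τ = tha ^ (d : ℕ) * (jj ^ (a : ℕ) * kk ^ (b : ℕ)) := by
          rw [MulEquiv.symm_apply_eq, map_mul, map_mul, map_pow, map_pow, map_pow, e]; rfl
        rw [this]
        exact S.fx_mul (S.fx_pow h _) (S.fx_mul (S.fx_pow hJ _) (S.fx_pow hK _))
      · exact jj_stab.1
    · refine key (MulAut.conj rhoB) (conjsign rhoB) (fun τ h1 h2 => ?_) ?_
      · obtain ⟨a, b, d, e⟩ := stab_words_b τ h1 h2
        have : (MulAut.conj rhoB).symm τ = thb ^ (d : ℕ) * (jj ^ (a : ℕ) * kk ^ (b : ℕ)) := by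
          rw [MulEquiv.symm_apply_eq, map_mul, map_mul, map_pow, map_pow, map_pow, e]; rfl
        rw [this]
        exact S.fx_mul (S.fx_pow h _) (S.fx_mul (S.fx_pow hJ _) (S.fx_pow hK _))
      · exact jj_stab.2.1
  intro β hβ hfix hj
  refine ⟨_, _, S.relabel β hβ, hO.relabel β, fun _ => rfl, n, hn0, fun τ h1 h2 => (hfix τ h1 h2).2, fun u hu => ?_⟩
  obtain ⟨n', -, hn', hl⟩ := M.lineJ
  have hX3 := S.nine.X3
  have hsj := nine_rel.2.2.2.2.2.2.2.2
  have hu' : A (1, jj) u = u := by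
    have := hu (β jj) (by rw [hβ, hsj]) hj
    rwa [β.symm_apply_apply] at this
  show u = 0 ∨ u = n ∨ u = A (x3, β.symm 1) n ∨ u = A (x3, β.symm 1) (A (x3, β.symm 1) n)
  rw [map_one]
  rcases hl n hJ.2 with e | e | e | e
  · exact absurd e hn0
  all_goals rcases hl u hu' with e' | e' | e' | e' <;> subst e e' <;> simp [hX3]

end Space

end Cfsg.Agent.SymSixCore
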