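import Cfsg.Agent.Lib.SymSixCore.Finite
import Cfsg.Agent.Lib.LargeExtra.Pair
import Mathlib.Tactic.Group

/-!
An involution `z` with extraspecial `Q` of order `2⁹` in `C(z)` and `C(z)/Q` inside `S₃ × S₆`: the basic
structure, and the image of `Q^g ∩ C(z)` for a conjugate `z^g` in `Q`.
-/

set_option autoImplicit false
set_option linter.style.haveILetI false
set_option linter.unusedSectionVars false

namespace Cfsg.Agent.SymSixCore

open Equiv Cfsg Cfsg.Agent.LargeExtra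

universe u

variable {G : Type u} [Group G]

/-- The hypotheses: `C(z)/Q` contains `A₃ × A₆` and an element odd on the first factor. -/
structure Core (z : G) (Q : Subgroup G) (π : G → P3 × P6) : Prop where
  loc : XSLocal Q z
  card : Nat.card Q = 512
  π_mul : ∀ a b, a * z = z * a → b * z = z * b → π (a * b) = π a * π b
  π_ker : ∀ h, h * z = z * h → (π h = 1 ↔ h ∈ Q)
  ev : ∀ σ τ, Perm.sign σ = 1 → Perm.sign τ = 1 → ∃ h, h * z = z * h ∧ π h = (σ, τ)
  odd : ∃ h, h * z = z * h ∧ Perm.sign (π h).1 = -1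
  res : Cfsg.pResidual 2 G = ⊤

variable [Finite G] {z : G} {Q : Subgroup G} {π : G → P3 × P6}

theorem mulz {x y : G} (h1 : x * z = z * x) (h2 : y * z = z * y) : x * y * z = z * (x * y) :=
  (show Commute x z from h1).mul_left (show Commute y z from h2)

theorem invz {x : G} (h : x * z = z * x) : x⁻¹ * z = z * x⁻¹ := (show Commute x z from h).inv_left

theorem conjz {x y : G} (h1 : x * z = z * x) (h2 : y * z = z * y) : x * y * x⁻¹ * z = z * (x * y * x⁻¹) :=
  mulz (mulz h1 h2) (invz h1)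

theorem comm_conj (g : G) {x y : G} (h : x * y = y * x) :
    g * x * g⁻¹ * (g * y * g⁻¹) = g * y * g⁻¹ * (g * x * g⁻¹) := by
  calc g * x * g⁻¹ * (g * y * g⁻¹) = g * (x * y) * g⁻¹ := by group
    _ = g * y * g⁻¹ * (g * x * g⁻¹) := by rw [h]; group

/-- The conjugate of `Q`. -/
abbrev Qc (Q : Subgroup G) (g : G) : Subgroup G := Q.map (MulAut.conj g).toMonoidHom

theorem mem_Qc {g a : G} : a ∈ Qc Q g ↔ g⁻¹ * a * g ∈ Q := mem_conjMap

/-- Membership of the image of `Q^g ∩ C(z)`. -/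
def InR (z : G) (Q : Subgroup G) (π : G → P3 × P6) (g : G) (p : P3 × P6) : Prop :=
  ∃ c, c ∈ Qc Q g ∧ c * z = z * c ∧ π c = p

/-- Some element of `Q^g ∩ C(z)` is odd on the first factor. -/
def Odd3 (z : G) (Q : Subgroup G) (π : G → P3 × P6) (g : G) : Prop :=
  ∃ p, InR z Q π g p ∧ Perm.sign p.1 = -1

namespace Core

variable (C : Core z Q π)
include C

theorem zQ : z ∈ Q := C.loc.toXSub.mem

theorem Qz {p : G} (hp : p ∈ Q) : p * z = z * p := C.loc.toXSub.comm hp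

theorem zz : z * z = 1 := C.loc.toXSub.sq

theorem z1 : z ≠ 1 := C.loc.toXSub.ne_one

theorem conjQ {h p : G} (hh : h * z = z * h) (hp : p ∈ Q) : h * p * h⁻¹ ∈ Q :=
  LargeExtra.conj_mem (C.loc.norm (mem_centralizer_one.2 hh)) hp

theorem conjQ' {h p : G} (hh : h * z = z * h) (hp : p ∈ Q) : h⁻¹ * p * h ∈ Q := by
  simpa using C.conjQ (invz hh) hp

theorem π_one : π 1 = 1 := (C.π_ker 1 (by simp)).2 Q.one_mem

theorem π_inv {h : G} (hh : h * z = z * h) : π h⁻¹ = (π h)⁻¹ := by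
  refine eq_inv_of_mul_eq_one_left ?_
  rw [← C.π_mul _ _ (invz hh) hh, inv_mul_cancel, C.π_one]

theorem π_conj {h k : G} (hh : h * z = z * h) (hk : k * z = z * k) :
    π (h * k * h⁻¹) = π h * π k * (π h)⁻¹ := by
  rw [C.π_mul _ _ (mulz hh hk) (invz hh), C.π_mul _ _ hh hk, C.π_inv hh]

theorem π_Q {q : G} (hq : q ∈ Q) : π q = 1 := (C.π_ker q (C.Qz hq)).2 hq

theorem π_mulQ {h q : G} (hh : h * z = z * h) (hq : q ∈ Q) : π (q * h) = π h := by
  rw [C.π_mul _ _ (C.Qz hq) hh, C.π_Q hq, one_mul]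

theorem Q32 : 32 ≤ Nat.card Q := by rw [C.card]; norm_num

/-- An abelian subgroup of `Q` has order at most `32`. -/
theorem card_abelian (A : Subgroup G) (hA : A ≤ Q) (hab : ∀ a ∈ A, ∀ b ∈ A, a * b = b * a) :
    Nat.card A ≤ 32 := by
  haveI : Fact (Nat.Prime 2) := ⟨Nat.prime_two⟩
  have h := FGBasics.XS.card_abelian_sq_le C.loc.xs (A.subgroupOf Q)
    (.of_setLike_mul_comm fun a ha b hb => Subtype.ext (hab _ ha _ hb))
  rw [Nat.card_congr (Subgroup.subgroupOfEquivOfLe hA).toEquiv, C.card] at h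
  nlinarith

/-- The centralizer in `Q` of a non-central element has order `256`. -/
theorem card_cent {x : G} (hx : x ∈ Q) (h1 : x ≠ 1) (hz : x ≠ z) :
    Nat.card ↥(Q ⊓ Subgroup.centralizer ({x} : Set G)) = 256 := by
  haveI : Fact (Nat.Prime 2) := ⟨Nat.prime_two⟩
  have hi := FGBasics.XS.centralizer_index_le C.loc.xs ⟨x, hx⟩
  have e : (Subgroup.centralizer ({(⟨x, hx⟩ : Q)} : Set Q)) =
      (Q ⊓ Subgroup.centralizer ({x} : Set G)).subgroupOf Q := by
    ext q
    simp [Subgroup.mem_subgroupOf, Subgroup.mem_centralizer_singleton_iff, Subtype.ext_iff]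
  rw [e] at hi
  have hm := ((Q ⊓ Subgroup.centralizer ({x} : Set G)).subgroupOf Q).card_mul_index
  rw [Nat.card_congr (Subgroup.subgroupOfEquivOfLe (inf_le_left : Q ⊓ Subgroup.centralizer ({x} : Set G) ≤ Q)).toEquiv,
    C.card] at hm
  have hne : ((Q ⊓ Subgroup.centralizer ({x} : Set G)).subgroupOf Q).index ≠ 1 := by
    intro e'
    rw [Subgroup.index_eq_one, Subgroup.subgroupOf_eq_top] at e'
    exact (C.loc.toXSub.eq_of_central hx fun r hr =>
      (mem_centralizer_one.1 (e' hr).2).symm).elim h1 hz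
  interval_cases h : ((Q ⊓ Subgroup.centralizer ({x} : Set G)).subgroupOf Q).index <;> omega

variable {g : G} (P : Pair Q z g)

include P in
theorem z_Qc : z ∈ Qc Q g := P.z_mem'

omit C in
theorem Qc_conj (hh : ∀ p ∈ Q, g⁻¹ * p * g ∈ Q) {p : G} (hp : p ∈ Q) : p ∈ Qc Q g :=
  mem_Qc.2 (hh p hp)

include P in
theorem Qa {p : G} (hp : p ∈ Qc Q g) : p * (g * z * g⁻¹) = g * z * g⁻¹ * p := P.h'.toXSub.comm hp

/-- Conjugation by an element fixing the pair preserves `Q^g`. -/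
theorem Qc_norm {h p : G} (ha : h * (g * z * g⁻¹) = g * z * g⁻¹ * h) (hp : p ∈ Qc Q g) :
    h * p * h⁻¹ ∈ Qc Q g := by
  have e : g⁻¹ * (h * p * h⁻¹) * g = g⁻¹ * h * g * (g⁻¹ * p * g) * (g⁻¹ * h * g)⁻¹ := by group
  refine mem_Qc.2 (e ▸ C.conjQ ?_ (mem_Qc.1 hp))
  calc g⁻¹ * h * g * z = g⁻¹ * (h * (g * z * g⁻¹)) * g := by group
    _ = z * (g⁻¹ * h * g) := by rw [ha]; group

/-- An element of `C(z)` fixing `z^g` modulo `z` can be corrected by an element of `Q`. -/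
theorem lift {a h : G} (haQ : a ∈ Q) (ha1 : a ≠ 1) (haz : a ≠ z) (hh : h * z = z * h)
    (hf : h * a * h⁻¹ = a ∨ h * a * h⁻¹ = a * z) :
    ∃ k, k * z = z * k ∧ k * a = a * k ∧ π k = π h := by
  rcases hf with e | e
  · exact ⟨h, hh, XSub.conj_eq_self_iff.1 e, rfl⟩
  · obtain ⟨q, hq, eq⟩ := C.loc.toXSub.exists_conj haQ ha1 haz
    refine ⟨q * h, mulz (C.Qz hq) hh, XSub.conj_eq_self_iff.1 ?_, C.π_mulQ hh hq⟩
    calc q * h * a * (q * h)⁻¹ = q * (h * a * h⁻¹) * q⁻¹ := by group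
      _ = q * a * q⁻¹ * (q * z * q⁻¹) := by rw [e]; group
      _ = a := by rw [eq, C.Qz hq, mul_inv_cancel_right, mul_assoc, C.zz, mul_one]

include P in
theorem R_mul {p p' : P3 × P6} (h : InR z Q π g p) (h' : InR z Q π g p') : InR z Q π g (p * p') := by
  obtain ⟨c, hc, hcz, rfl⟩ := h
  obtain ⟨d, hd, hdz, rfl⟩ := h'
  exact ⟨c * d, mul_mem hc hd, mulz hcz hdz, C.π_mul c d hcz hdz⟩

theorem R_ker {e : G} (he : e = 1 ∨ e = g * z * g⁻¹) (P : Pair Q z g) : e ∈ Q := by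
  rcases he with rfl | rfl
  exacts [Q.one_mem, P.mem]

include P in
theorem R_sq {p : P3 × P6} (h : InR z Q π g p) : p * p = 1 := by
  obtain ⟨c, hc, hcz, rfl⟩ := h
  rw [← C.π_mul c c hcz hcz]
  exact C.π_Q (C.R_ker (P.h'.toXSub.sq_cases hc) P)

include P in
theorem R_comm {p p' : P3 × P6} (h : InR z Q π g p) (h' : InR z Q π g p') : p * p' = p' * p := by
  have h1 := C.R_sq P h
  have h2 := C.R_sq P h'
  have h3 := C.R_sq P (C.R_mul P h h')
  calc p * p' = p * (p * p' * (p * p')) * p' := by rw [h3, mul_one]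
    _ = p * p * (p' * p) * (p' * p') := by simp only [mul_assoc]
    _ = p' * p := by rw [h1, h2, one_mul, mul_one]

include P in
theorem R_conj {p : P3 × P6} (h : InR z Q π g p) {k : G} (hk : k * z = z * k)
    (hka : k * (g * z * g⁻¹) = g * z * g⁻¹ * k) : InR z Q π g (π k * p * (π k)⁻¹) := by
  obtain ⟨c, hc, hcz, rfl⟩ := h
  exact ⟨k * c * k⁻¹, C.Qc_norm hka hc, conjz hk hcz, C.π_conj hk hcz⟩

include P in
theorem inter_abelian : ∀ a ∈ Q ⊓ Qc Q g, ∀ b ∈ Q ⊓ Qc Q g, a * b = b * a := by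
  intro a ha b hb
  rcases C.loc.toXSub.comm_cases ha.1 hb.1 with e | e
  · exact commutatorElement_eq_one_iff_mul_comm.1 e
  rcases P.h'.toXSub.comm_cases ha.2 hb.2 with e' | e'
  · exact commutatorElement_eq_one_iff_mul_comm.1 e'
  exact absurd (e'.symm.trans e) P.ne

include P in
theorem inter_sq {a : G} (ha : a ∈ Q ⊓ Qc Q g) : a * a = 1 := by
  rcases C.loc.toXSub.sq_cases ha.1 with e | e
  · exact e
  rcases P.h'.toXSub.sq_cases ha.2 with e' | e'
  · exact e'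
  exact absurd (e'.symm.trans e) P.ne

include P in
theorem card_Qcz : Nat.card ↥(Qc Q g ⊓ Subgroup.centralizer ({z} : Set G)) = 256 := by
  have hx : g⁻¹ * z * g ∈ Q := mem_Qc.1 P.z_mem'
  have h1 : g⁻¹ * z * g ≠ 1 := fun e => C.z1 (by
    calc z = g * (g⁻¹ * z * g) * g⁻¹ := by group
      _ = 1 := by rw [e]; group)
  have hz : g⁻¹ * z * g ≠ z := fun e => P.ne (by
    calc g * z * g⁻¹ = g * (g⁻¹ * z * g) * g⁻¹ := by rw [e]
      _ = z := by group)
  rw [← C.card_cent hx h1 hz]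
  symm
  refine Nat.card_congr ((Subgroup.equivMapOfInjective _ (MulAut.conj g).toMonoidHom
    (MulAut.conj g).injective).toEquiv.trans (Equiv.setCongr ?_))
  ext a
  constructor
  · rintro ⟨b, ⟨hb, hbx⟩, rfl⟩
    refine ⟨⟨b, hb, rfl⟩, mem_centralizer_one.2 ?_⟩
    have := comm_conj g (mem_centralizer_one.1 hbx)
    show g * b * g⁻¹ * z = z * (g * b * g⁻¹)
    rwa [show g * (g⁻¹ * z * g) * g⁻¹ = z by group] at this
  · rintro ⟨⟨b, hb, rfl⟩, ha⟩
    refine ⟨b, ⟨hb, mem_centralizer_one.2 ?_⟩, rfl⟩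
    have := comm_conj g⁻¹ (mem_centralizer_one.1 ha)
    rw [inv_inv] at this
    calc b * (g⁻¹ * z * g) = g⁻¹ * (g * b * g⁻¹) * g * (g⁻¹ * z * g) := by group
      _ = g⁻¹ * z * g * (g⁻¹ * (g * b * g⁻¹) * g) := this
      _ = g⁻¹ * z * g * b := by group

include P in
/-- The image has order at least eight. -/
theorem card_R : 8 ≤ Nat.card {p // InR z Q π g p} := by
  classical
  set A := Qc Q g ⊓ Subgroup.centralizer ({z} : Set G)
  let f : A →* P3 × P6 := MonoidHom.mk' (fun a => π (a : G)) fun a b =>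
    C.π_mul _ _ (mem_centralizer_one.1 a.2.2) (mem_centralizer_one.1 b.2.2)
  have hker : Nat.card f.ker ≤ 32 := by
    refine le_trans ?_ (C.card_abelian (Q ⊓ Qc Q g) inf_le_left (C.inter_abelian P))
    exact Nat.card_le_card_of_injective (fun a => ⟨((a : A) : G),
      ⟨(C.π_ker _ (mem_centralizer_one.1 (a : A).2.2)).1 a.2, (a : A).2.1⟩⟩)
      fun a b e => Subtype.ext (Subtype.ext (congrArg Subtype.val e :))
  have hm := f.ker.card_mul_index
  rw [Subgroup.index_ker, C.card_Qcz P] at hm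
  have hr : Nat.card f.range ≤ Nat.card {p // InR z Q π g p} := by
    refine Nat.card_le_card_of_injective (fun p => ⟨p.1, ?_⟩) fun a b e => Subtype.ext (congrArg Subtype.val e :)
    obtain ⟨a, ha⟩ := p.2
    exact ⟨a, a.2.1, mem_centralizer_one.1 a.2.2, ha⟩
  nlinarith

end Core

end Cfsg.Agent.SymSixCore
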