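import Cfsg.Agent.Lib.SymSixCore.Setting
import Mathlib.GroupTheory.QuotientGroup.Basic
import Mathlib.Algebra.Group.TypeTags.Hom

/-!
`Q/⟨z⟩` as an abelian group with operators, quadratic and bilinear forms.
-/

set_option autoImplicit false
set_option linter.style.haveILetI false
set_option linter.unusedSectionVars false

namespace Cfsg.Agent.SymSixCore

open Equiv Cfsg Cfsg.Agent.LargeExtra
open scoped commutatorElement

universe u

variable {G : Type u} [Group G]

/-- The space attached to the setting. -/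
structure Space (z : G) (Q : Subgroup G) (π : G → P3 × P6) (V : Type u) [AddCommGroup V] (v : G → V)
    (A : P3 × P6 → V →+ V) (q : V → Bool) (B : V → V → Bool) : Prop where
  C : Core z Q π
  v_mul : ∀ p r, p ∈ Q → r ∈ Q → v (p * r) = v p + v r
  v_zero : ∀ p, p ∈ Q → (v p = 0 ↔ p = 1 ∨ p = z)
  v_surj : ∀ w, ∃ p, p ∈ Q ∧ v p = w
  two : ∀ w : V, w + w = 0
  card : Nat.card V = 256
  act : ∀ h p, h * z = z * h → p ∈ Q → v (h * p * h⁻¹) = A (π h) (v p)
  sq : ∀ p, p ∈ Q → (p * p = 1 ↔ q (v p) = false)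
  comm : ∀ p r, p ∈ Q → r ∈ Q → (p * r = r * p ↔ B (v p) (v r) = false)

variable [Finite G] {z : G} {Q : Subgroup G} {π : G → P3 × P6}

theorem exists_space (C : Core z Q π) : ∃ (V : Type u) (_ : AddCommGroup V) (v : G → V)
    (A : P3 × P6 → V →+ V) (q : V → Bool) (B : V → V → Bool), Space z Q π V v A q B := by
  classical
  let N := Subgroup.center ↥Q
  have hmem : ∀ x : Q, x ∈ N ↔ (x : G) = 1 ∨ (x : G) = z := by
    intro x
    refine ⟨C.loc.toXSub.coe_center, ?_⟩
    rintro (e | e)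
    · rw [show x = 1 from Subtype.ext e]; exact one_mem _
    · rw [show x = ⟨z, C.zQ⟩ from Subtype.ext e]; exact C.loc.toXSub.mem_center
  letI : CommGroup (↥Q ⧸ N) := { (inferInstance : Group (↥Q ⧸ N)) with
    mul_comm := fun a b => by
      induction a using QuotientGroup.induction_on with | H x => ?_
      induction b using QuotientGroup.induction_on with | H y => ?_
      rw [← QuotientGroup.mk_mul, ← QuotientGroup.mk_mul, QuotientGroup.eq, hmem]
      have e : (((x * y)⁻¹ * (y * x) : Q) : G) = ⁅((y : G))⁻¹, ((x : G))⁻¹⁆ := by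
        push_cast; rw [commutatorElement_def]; group
      rw [e]
      exact C.loc.toXSub.comm_cases (inv_mem y.2) (inv_mem x.2) }
  let V := Additive (↥Q ⧸ N)
  let v : G → V := fun p => if hp : p ∈ Q then Additive.ofMul (QuotientGroup.mk ⟨p, hp⟩) else 0
  have vQ : ∀ x : Q, v (x : G) = Additive.ofMul (QuotientGroup.mk x) := fun x => dif_pos x.2
  have surj : ∀ w : V, ∃ p, p ∈ Q ∧ v p = w := by
    intro w
    obtain ⟨x, hx⟩ := QuotientGroup.mk_surjective (Additive.toMul w)
    exact ⟨x, x.2, by rw [vQ, hx]; rfl⟩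
  have veq : ∀ p r, p ∈ Q → r ∈ Q → (v p = v r ↔ r = p ∨ r = p * z) := by
    intro p r hp hr
    rw [vQ ⟨p, hp⟩, vQ ⟨r, hr⟩, Additive.ofMul.injective.eq_iff, QuotientGroup.eq, hmem]
    push_cast
    rw [inv_mul_eq_one, inv_mul_eq_iff_eq_mul]
    exact or_congr eq_comm Iff.rfl
  have vmul : ∀ p r, p ∈ Q → r ∈ Q → v (p * r) = v p + v r := fun p r hp hr => by
    rw [vQ ⟨p, hp⟩, vQ ⟨r, hr⟩, ← ofMul_mul, ← QuotientGroup.mk_mul]
    exact vQ (⟨p, hp⟩ * ⟨r, hr⟩)
  have vone : v 1 = 0 := by rw [show (1 : G) = ((1 : Q) : G) from rfl, vQ]; rfl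
  let rep : V → G := fun w => (surj w).choose
  have rep_mem : ∀ w, rep w ∈ Q := fun w => (surj w).choose_spec.1
  have rep_v : ∀ w, v (rep w) = w := fun w => (surj w).choose_spec.2
  let L : ∀ h : G, h * z = z * h → (V →+ V) := fun h hh => AddMonoidHom.mk' (fun w => v (h * rep w * h⁻¹))
    fun a b => by
      rw [← vmul _ _ (C.conjQ hh (rep_mem a)) (C.conjQ hh (rep_mem b))]
      have : rep (a + b) = rep a * rep b ∨ rep (a + b) = rep a * rep b * z :=
        (veq _ _ (mul_mem (rep_mem a) (rep_mem b)) (rep_mem _)).1 (by rw [vmul _ _ (rep_mem a) (rep_mem b), rep_v, rep_v, rep_v])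
      refine (veq _ _ (C.conjQ hh (rep_mem _)) (mul_mem (C.conjQ hh (rep_mem a)) (C.conjQ hh (rep_mem b)))).2 ?_
      rcases this with e | e <;> rw [e]
      · exact Or.inl (by group)
      · right
        have hz : h * z * h⁻¹ = z := by rw [hh, mul_inv_cancel_right]
        calc h * rep a * h⁻¹ * (h * rep b * h⁻¹) = h * rep a * h⁻¹ * (h * rep b * h⁻¹) * (z * z) := by
              rw [C.zz, mul_one]
          _ = h * (rep a * rep b) * h⁻¹ * (h * z * h⁻¹) * z := by rw [hz]; group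
          _ = h * (rep a * rep b * z) * h⁻¹ * z := by group
  have Lact : ∀ h (hh : h * z = z * h) p, p ∈ Q → v (h * p * h⁻¹) = L h hh (v p) := by
    intro h hh p hp
    show _ = v (h * rep (v p) * h⁻¹)
    refine (veq _ _ (C.conjQ hh hp) (C.conjQ hh (rep_mem _))).2 ?_
    rcases (veq p (rep (v p)) hp (rep_mem _)).1 (rep_v _).symm with e | e <;> rw [e]
    · exact Or.inl rfl
    · right
      calc h * (p * z) * h⁻¹ = h * p * h⁻¹ * (h * z * h⁻¹) := by group
        _ = h * p * h⁻¹ * z := by rw [hh, mul_inv_cancel_right]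
  let A : P3 × P6 → (V →+ V) := fun s =>
    if hs : ∃ h, h * z = z * h ∧ π h = s then L hs.choose hs.choose_spec.1 else 0
  refine ⟨V, inferInstance, v, A, fun w => decide (rep w * rep w ≠ 1),
    fun a b => decide (rep a * rep b ≠ rep b * rep a), ⟨C, vmul, ?_, surj, ?_, ?_, ?_, ?_, ?_⟩⟩
  · intro p hp
    rw [← vone, eq_comm, veq 1 p Q.one_mem hp, one_mul]
  · intro w
    obtain ⟨p, hp, rfl⟩ := surj w
    rw [← vmul p p hp hp, ← vone, eq_comm, veq 1 _ Q.one_mem (mul_mem hp hp), one_mul]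
    exact C.loc.toXSub.sq_cases hp
  · have h := N.card_mul_index
    rw [C.loc.xs.2, C.card, Subgroup.index] at h
    show Nat.card (↥Q ⧸ N) = 256
    omega
  · intro h p hh hp
    have hs : ∃ k, k * z = z * k ∧ π k = π h := ⟨h, hh, rfl⟩
    simp only [A, dif_pos hs]
    obtain ⟨hk, hkπ⟩ := hs.choose_spec
    generalize hs.choose = k at hk hkπ ⊢
    rw [← Lact k hk p hp]
    have hq : k⁻¹ * h ∈ Q := (C.π_ker _ (mulz (invz hk) hh)).1 (by
      rw [C.π_mul _ _ (invz hk) hh, C.π_inv hk, hkπ, inv_mul_cancel])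
    refine (veq _ _ (C.conjQ hh hp) (C.conjQ hk hp)).2 ?_
    have e : h * p * h⁻¹ = k * (k⁻¹ * h * p * (k⁻¹ * h)⁻¹) * k⁻¹ := by group
    rw [e]
    rcases C.loc.toXSub.conj_cases hq hp with c | c <;> rw [c]
    · exact Or.inl rfl
    · right
      calc k * p * k⁻¹ = k * p * k⁻¹ * (z * z) := by rw [C.zz, mul_one]
        _ = k * p * k⁻¹ * (k * z * k⁻¹) * z := by rw [hk]; group
        _ = k * (p * z) * k⁻¹ * z := by group
  · intro p hp
    simp only [decide_eq_false_iff_not, not_not]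
    rcases (veq p (rep (v p)) hp (rep_mem _)).1 (rep_v _).symm with e | e <;> rw [e]
    rw [show p * z * (p * z) = p * (z * p) * z by group, ← C.Qz hp,
      show p * (p * z) * z = p * p * (z * z) by group, C.zz, mul_one]
  · intro p r hp hr
    simp only [decide_eq_false_iff_not, not_not]
    have cz : ∀ a b, a ∈ Q → b ∈ Q → (a * (b * z) = b * z * a ↔ a * b = b * a) := by
      intro a b ha hb
      rw [mul_assoc b z a, ← C.Qz ha, ← mul_assoc a b, ← mul_assoc b a, mul_left_inj]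
    rcases (veq p (rep (v p)) hp (rep_mem _)).1 (rep_v _).symm with e | e <;>
      rcases (veq r (rep (v r)) hr (rep_mem _)).1 (rep_v _).symm with e' | e' <;> rw [e, e']
    · exact (cz _ _ hp hr).symm
    · exact Iff.trans eq_comm ((cz _ _ hr hp).symm.trans eq_comm)
    · rw [cz _ _ (mul_mem hp C.zQ) hr]
      exact Iff.trans eq_comm ((cz _ _ hr hp).symm.trans eq_comm)

variable {V : Type u} [AddCommGroup V] {v : G → V} {A : P3 × P6 → V →+ V} {q : V → Bool} {B : V → V → Bool}

namespace Space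

variable (S : Space z Q π V v A q B)
include S

theorem veq {p r : G} (hp : p ∈ Q) (hr : r ∈ Q) : v p = v r ↔ r = p ∨ r = p * z := by
  constructor
  · intro e
    have h := (S.v_zero (p⁻¹ * r) (mul_mem (inv_mem hp) hr)).1 ?_
    · rcases h with h | h
      · exact Or.inl (inv_mul_eq_one.1 h).symm
      · exact Or.inr (inv_mul_eq_iff_eq_mul.1 h)
    · have h1 := S.v_mul p (p⁻¹ * r) hp (mul_mem (inv_mem hp) hr)
      rw [mul_inv_cancel_left, ← e] at h1
      exact left_eq_add.1 h1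
  · rintro (rfl | rfl)
    · rfl
    · rw [S.v_mul p z hp S.C.zQ, (S.v_zero z S.C.zQ).2 (Or.inr rfl), add_zero]

theorem v_inv {p : G} (hp : p ∈ Q) : v p⁻¹ = v p := by
  have h1 := S.v_mul p p⁻¹ hp (inv_mem hp)
  rw [mul_inv_cancel, (S.v_zero 1 Q.one_mem).2 (Or.inl rfl)] at h1
  exact (add_left_cancel ((S.two (v p)).trans h1)).symm

theorem v_comm {h p : G} (hh : h * z = z * h) (hp : p ∈ Q) :
    v (h * p * h⁻¹ * p⁻¹) = A (π h) (v p) + v p := by
  rw [S.v_mul _ _ (S.C.conjQ hh hp) (inv_mem hp), S.act h p hh hp, S.v_inv hp]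

theorem A_one (w : V) : A 1 w = w := by
  obtain ⟨p, hp, rfl⟩ := S.v_surj w
  rw [← S.C.π_one, ← S.act 1 p (by simp) hp, one_mul, inv_one, mul_one]

theorem A_mul {h k : G} (hh : h * z = z * h) (hk : k * z = z * k) (w : V) :
    A (π h * π k) w = A (π h) (A (π k) w) := by
  obtain ⟨p, hp, rfl⟩ := S.v_surj w
  rw [← S.C.π_mul h k hh hk, ← S.act _ p (mulz hh hk) hp, ← S.act k p hk hp, ← S.act h _ hh (S.C.conjQ hk hp)]
  congr 1
  group

theorem A_ev {σ σ' : P3} {τ τ' : P6} (h1 : Perm.sign σ = 1) (h2 : Perm.sign τ = 1) (h1' : Perm.sign σ' = 1)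
    (h2' : Perm.sign τ' = 1) (w : V) : A (σ * σ', τ * τ') w = A (σ, τ) (A (σ', τ') w) := by
  obtain ⟨h, hh, e⟩ := S.C.ev σ τ h1 h2
  obtain ⟨k, hk, e'⟩ := S.C.ev σ' τ' h1' h2'
  rw [show (σ * σ', τ * τ') = (σ, τ) * (σ', τ') from rfl, ← e, ← e', S.A_mul hh hk]

theorem B_symm (a b : V) : B a b = B b a := by
  obtain ⟨p, hp, rfl⟩ := S.v_surj a
  obtain ⟨r, hr, rfl⟩ := S.v_surj b
  have h1 := S.comm p r hp hr
  have h2 := S.comm r p hr hp
  rw [eq_comm, h2] at h1
  revert h1
  cases B (v p) (v r) <;> cases B (v r) (v p) <;> simp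

theorem q_zero : q 0 = false := by
  rw [← (S.v_zero 1 Q.one_mem).2 (Or.inl rfl)]
  exact (S.sq 1 Q.one_mem).1 (mul_one 1)

theorem q_add (a b : V) : q (a + b) = (q a ^^ q b ^^ B a b) := by
  obtain ⟨p, hp, rfl⟩ := S.v_surj a
  obtain ⟨r, hr, rfl⟩ := S.v_surj b
  have hz := S.C.zz
  have z1 := S.C.z1
  have key : ∃ c, (c = 1 ∨ c = z) ∧ r * p = p * r * c ∧ (c = 1 ↔ B (v p) (v r) = false) := by
    rcases S.C.loc.toXSub.conj_cases hr hp with e | e
    · have e' := XSub.conj_eq_self_iff.1 e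
      refine ⟨1, Or.inl rfl, by rw [mul_one]; exact e', ?_⟩
      simp only [true_iff]
      exact (S.comm p r hp hr).1 e'.symm
    · refine ⟨z, Or.inr rfl, ?_, ?_⟩
      · rw [mul_inv_eq_iff_eq_mul] at e
        rw [e, mul_assoc, ← S.C.Qz hr, ← mul_assoc]
      · refine iff_of_false z1 fun hb => ?_
        have e' := (S.comm p r hp hr).2 hb
        rw [← e', mul_inv_cancel_right] at e
        exact z1 (mul_eq_left.1 e.symm)
  obtain ⟨c, hc, e, hB⟩ := key
  have hcc : ∀ x ∈ Q, x * c = c * x := fun x hx => by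
    rcases hc with rfl | rfl
    · simp
    · exact S.C.Qz hx
  have e2 : p * r * (p * r) = p * p * (r * r) * c := by
    calc p * r * (p * r) = p * (r * p) * r := by group
      _ = p * p * r * (c * r) := by rw [e]; group
      _ = p * p * r * (r * c) := by rw [hcc r hr]
      _ = p * p * (r * r) * c := by group
  have h3 := S.sq (p * r) (mul_mem hp hr)
  rw [S.v_mul p r hp hr, e2] at h3
  have h1 := S.sq p hp
  have h2 := S.sq r hr
  rcases S.C.loc.toXSub.sq_cases hp with ep | ep <;> rcases S.C.loc.toXSub.sq_cases hr with er | er <;>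
    rcases hc with rfl | rfl <;> rw [ep, er] at h3 <;> rw [ep] at h1 <;> rw [er] at h2 <;>
    simp [hz, z1] at h1 h2 h3 hB <;> simp [h1, h2, h3, hB]

theorem conj_eq {p r : G} (hp : p ∈ Q) (hr : r ∈ Q) :
    p * r * p⁻¹ = if B (v p) (v r) then r * z else r := by
  rcases S.C.loc.toXSub.conj_cases hp hr with e | e
  · rw [(S.comm p r hp hr).1 (XSub.conj_eq_self_iff.1 e), if_neg Bool.false_ne_true, e]
  · cases hB : B (v p) (v r)
    · rw [XSub.conj_eq_self_iff.2 ((S.comm p r hp hr).2 hB)] at e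
      exact absurd e (S.C.loc.toXSub.ne_mul_z r)
    · rw [if_pos rfl, e]

theorem B_add' (a b c : V) : B a (b + c) = (B a b ^^ B a c) := by
  obtain ⟨p, hp, rfl⟩ := S.v_surj a
  obtain ⟨r, hr, rfl⟩ := S.v_surj b
  obtain ⟨t, ht, rfl⟩ := S.v_surj c
  have em : p * (r * t) * p⁻¹ = p * r * p⁻¹ * (p * t * p⁻¹) := by group
  rw [S.conj_eq hp (mul_mem hr ht), S.conj_eq hp hr, S.conj_eq hp ht, S.v_mul r t hr ht] at em
  have zz := S.C.zz
  have e1 : r * z * t = r * t * z := by rw [mul_assoc r z, ← S.C.Qz ht, mul_assoc]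
  have e2 : r * z * (t * z) = r * t := by rw [← mul_assoc, e1, mul_assoc, zz, mul_one]
  have e3 : r * (t * z) = r * t * z := (mul_assoc r t z).symm
  have n := S.C.loc.toXSub.ne_mul_z (r * t)
  have n' := n.symm
  cases hx : B (v p) (v r + v t) <;> cases hy : B (v p) (v r) <;> cases hz : B (v p) (v t) <;>
    simp only [hx, hy, hz, if_true, Bool.false_eq_true, if_false, e1, e2, e3] at em <;>
    first
      | rfl
      | exact absurd em n
      | exact absurd em n'

theorem B_add (a b c : V) : B (a + b) c = (B a c ^^ B b c) := by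
  rw [S.B_symm, S.B_add', S.B_symm c a, S.B_symm c b]

theorem nondeg {a : V} (ha : a ≠ 0) : ∃ b, B a b = true := by
  obtain ⟨p, hp, rfl⟩ := S.v_surj a
  by_contra h
  push Not at h
  refine ha ((S.v_zero p hp).2 (S.C.loc.toXSub.eq_of_central hp fun r hr => (S.comm p r hp hr).2 ?_))
  simpa using h (v r)

theorem B_zero (a : V) : B 0 a = false := by
  have := S.B_add 0 0 a
  rw [add_zero] at this
  revert this
  cases B 0 a <;> simp

theorem q_act {h : G} (hh : h * z = z * h) (a : V) : q (A (π h) a) = q a := by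
  obtain ⟨p, hp, rfl⟩ := S.v_surj a
  rw [← S.act h p hh hp]
  have h1 := S.sq _ (S.C.conjQ hh hp)
  have h2 := S.sq p hp
  rw [show h * p * h⁻¹ * (h * p * h⁻¹) = h * (p * p) * h⁻¹ by group, conj_eq_one_iff, h2] at h1
  revert h1
  cases q (v p) <;> cases q (v (h * p * h⁻¹)) <;> simp

theorem B_act {h : G} (hh : h * z = z * h) (a b : V) : B (A (π h) a) (A (π h) b) = B a b := by
  have e := S.q_add (A (π h) a) (A (π h) b)
  rw [← map_add, S.q_act hh, S.q_act hh, S.q_act hh, S.q_add] at e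
  revert e
  cases q a <;> cases q b <;> cases B a b <;> cases B (A (π h) a) (A (π h) b) <;> simp

end Space

end Cfsg.Agent.SymSixCore
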