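import Cfsg.Agent.Lib.SymSixCore.Odd

/-!
An element exchanging `z` and `a` gives a conjugate of `z` inducing the transposition of the first factor and
centralizing the first slice.
-/

set_option autoImplicit false
set_option linter.style.haveILetI false
set_option linter.unusedSectionVars false

namespace Cfsg.Agent.SymSixCore

open Equiv Cfsg Cfsg.Agent.LargeExtra
open scoped commutatorElement

universe u

theorem perp_split : ∀ t : W4, beta 1 t = false → ∃ y, beta 1 y = false ∧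
    (t = wadd (wact thS y) y ∨ t = wadd (wadd (wact thS y) y) 1) := by decide +kernel

set_option maxHeartbeats 4000000 in
theorem fix_perp : ∀ τ : P6, (∀ y : W4, beta 1 y = false → wact τ y = y) → τ = 1 ∨ τ = tau0 := by decide +kernel

theorem exists_move : ∀ t : W4, t ≠ 0 → t ≠ 1 → ∃ x, beta 1 x = true ∧ beta t x = false := by decide +kernel

theorem tau0_move : ∀ x : W4, beta 1 x = true → wadd (wact tau0 x) x = 1 := by decide +kernel

theorem test_points : beta 1 (pcode 1 2) = true ∧ beta 1 (pcode 4 5) = false ∧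
    beta (pcode 4 5) (pcode 1 2) = false ∧ pcode 4 5 ≠ 0 ∧ pcode 4 5 ≠ 1 := by decide +kernel

theorem act_second {σ : P3} {τ : P6} {s : W4} (y : W4) (hσ : σ 0 = 0) (hτ : wact τ 1 = 1) (hs : s = 0 ∨ s = 1) :
    (act (σ, τ) (y, s)).2 = s := by
  have e : wact τ s = s := by rcases hs with rfl | rfl; exacts [wact_zero τ, hτ]
  show (vadd (slice (σ 0) (wact τ y)) (slice (σ 1) (wact τ s))).2 = s
  rw [e]
  rcases fix_zero σ hσ with rfl | rfl
  · exact (wadd_zero s).2.1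
  · rw [(t0_slice s).1, (t0_slice (wact τ y)).2]
    exact (wadd_zero s).2.1

variable {G : Type u} [Group G] [Finite G] {z : G} {Q : Subgroup G} {π : G → P3 × P6}

/-- The elements of `Q` over the first slice and orthogonal to the first pair. -/
def InL (Q : Subgroup G) (vec : G → Vm) (p : G) : Prop :=
  p ∈ Q ∧ (vec p).2 = 0 ∧ beta 1 (vec p).1 = false

namespace Coords

variable {vec : G → Vm} (D : Coords z Q π vec)
include D

/-- The elements over the first slice commute. -/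
theorem slice_comm {p r : G} (hp : p ∈ Q) (hr : r ∈ Q) (h1 : (vec p).2 = 0) (h2 : (vec r).2 = 0) :
    p * r = r * p :=
  (D.comm p r hp hr).2 (by rw [bf, h1, h2, (beta_self _).2.2, (beta_self _).2.1]; rfl)

theorem inL_mul {p r : G} (hp : InL Q vec p) (hr : InL Q vec r) : InL Q vec (p * r) := by
  refine ⟨Q.mul_mem hp.1 hr.1, ?_, ?_⟩ <;> rw [D.mul p r hp.1 hr.1]
  · show wadd _ _ = 0
    rw [hp.2.1, hr.2.1]; rfl
  · show beta 1 (wadd _ _) = false
    rw [beta_add', hp.2.2, hr.2.2]; rfl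

theorem inL_z : InL Q vec z := ⟨D.C.zQ, by rw [D.vec_z], by rw [D.vec_z]; rfl⟩

theorem inL_one : InL Q vec 1 := ⟨Q.one_mem, by rw [D.vec_one], by rw [D.vec_one]; rfl⟩

variable {g : G} (P : Pair Q z g) (ha : vec (g * z * g⁻¹) = ((1 : W4), (0 : W4)))
include P ha

theorem inL_a : InL Q vec (g * z * g⁻¹) := ⟨P.mem, by rw [ha], by rw [ha]; rfl⟩

theorem conj_of_slice {p : G} {t : W4} (hp : p ∈ Q) (hv : vec p = (t, (0 : W4))) (ht : t ≠ 0) :
    ∃ k τ, k * z = z * k ∧ π k = (1, τ) ∧ wact τ 1 = t ∧ k * (g * z * g⁻¹) * k⁻¹ = p := by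
  obtain ⟨τ, hτ, rfl⟩ := transitive t ht
  obtain ⟨h, hh, e⟩ := D.C.ev 1 τ (map_one _) hτ
  have hQ := D.C.conjQ hh P.mem
  rcases D.veq hQ hp (by rw [D.conj_slice (j := 0) (y := 1) hh P.mem e ha, hv]; rfl) with e' | e'
  · exact ⟨h, τ, hh, e, rfl, e'.symm⟩
  · obtain ⟨q, hq, eq⟩ := D.C.loc.toXSub.exists_conj hQ
      (fun e1 => P.h'.toXSub.ne_one (conj_eq_one_iff.1 e1))
      fun e1 => P.ne (by
        calc g * z * g⁻¹ = h⁻¹ * (h * (g * z * g⁻¹) * h⁻¹) * h := by group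
          _ = z := by rw [e1, mul_assoc, ← hh, inv_mul_cancel_left])
    refine ⟨q * h, τ, mulz (D.C.Qz hq) hh, by rw [D.C.π_mulQ hh hq, e], rfl, ?_⟩
    rw [e', ← eq]; group

theorem slice_mem (hO : Odd3 z Q π g) {k d : G} {τ : P6} {t : W4} (hk : k * z = z * k) (e : π k = (1, τ))
    (ht : wact τ 1 = t) (hd : d ∈ Q) (hd2 : (vec d).2 = 0) (hperp : beta t (vec d).1 = false) :
    d ∈ Qc Q (k * g) := by
  refine mem_Qc.2 ?_
  rw [show (k * g)⁻¹ * d * (k * g) = g⁻¹ * (k⁻¹ * d * k) * g by group]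
  refine mem_Qc.1 ((D.inter_shape P ha hO (D.C.conjQ' hk hd)).2 ?_)
  have hv : vec (k⁻¹ * d * k) = (wact τ⁻¹ (vec d).1, (0 : W4)) := by
    have := D.conj_slice (σ := 1) (τ := τ⁻¹) (j := 0) (y := (vec d).1) (invz hk) hd
      (by rw [D.C.π_inv hk, e, Prod.inv_mk, inv_one]) (Prod.ext rfl hd2)
    rw [inv_inv] at this
    exact this
  rw [hv]
  refine ⟨?_, Or.inl rfl⟩
  rw [show (1 : W4) = wact τ⁻¹ t by rw [← ht, ← wact_mul, inv_mul_cancel, wact_one], beta_wact]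
  exact hperp

theorem swap_Q {n : G} (h1 : n * z * n⁻¹ = g * z * g⁻¹) {x : G} (hx : x ∈ Q) : n * x * n⁻¹ ∈ Qc Q g :=
  D.C.Qc_congr h1 (mem_Qc.2 (by rwa [show n⁻¹ * (n * x * n⁻¹) * n = x by group]))

theorem swap_Qc {n : G} (h2 : n * (g * z * g⁻¹) * n⁻¹ = z) {x : G} (hx : x ∈ Qc Q g) : n * x * n⁻¹ ∈ Q := by
  have e : n * g * z * (n * g)⁻¹ = z :=
    (show n * g * z * (n * g)⁻¹ = n * (g * z * g⁻¹) * n⁻¹ by group).trans h2
  have hng : n * g * z = z * (n * g) := mul_inv_eq_iff_eq_mul.1 e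
  have := D.C.conjQ hng (mem_Qc.1 hx)
  rwa [show n * g * (g⁻¹ * x * g) * (n * g)⁻¹ = n * x * n⁻¹ by group] at this

/-- An element exchanging `z` and `a` preserves `InL`. -/
theorem swap_L (hO : Odd3 z Q π g) {n : G} (h1 : n * z * n⁻¹ = g * z * g⁻¹)
    (h2 : n * (g * z * g⁻¹) * n⁻¹ = z) {l : G} (hl : InL Q vec l) : InL Q vec (n * l * n⁻¹) := by
  obtain ⟨hlQ, hl2, hl1⟩ := hl
  obtain ⟨y, hy, ht⟩ := perp_split _ hl1
  obtain ⟨i, hi, hiv⟩ := D.surj (y, 0)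
  have hig : i ∈ Qc Q g := (D.inter_shape P ha hO hi).2 (by rw [hiv]; exact ⟨hy, Or.inl rfl⟩)
  obtain ⟨k, hk, hka, hkπ⟩ := D.stab_lift P ha (σ := 1) (τ := thS) (map_one _) thS_facts.1 rfl thS_facts.2
  -- the commutator and its image
  obtain ⟨hc, hcv⟩ := D.vec_comm hk hi
  have hi'Q : n * i * n⁻¹ ∈ Q := D.swap_Qc P ha h2 hig
  have hi'g : n * i * n⁻¹ ∈ Qc Q g := D.swap_Q P ha h1 hi
  have hk' : n * k * n⁻¹ * z = z * (n * k * n⁻¹) := by
    have := comm_conj n hka; rwa [h2] at this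
  have hk'a : n * k * n⁻¹ * (g * z * g⁻¹) = g * z * g⁻¹ * (n * k * n⁻¹) := by
    have := comm_conj n hk; rwa [h1] at this
  have himg : InL Q vec (n * (k * i * k⁻¹ * i⁻¹) * n⁻¹) := by
    rw [show n * (k * i * k⁻¹ * i⁻¹) * n⁻¹ =
      n * k * n⁻¹ * (n * i * n⁻¹) * (n * k * n⁻¹)⁻¹ * (n * i * n⁻¹)⁻¹ by group]
    obtain ⟨hQ', hv'⟩ := D.vec_comm hk' hi'Q
    refine ⟨hQ', ?_, ((D.inter_shape P ha hO hQ').1
      ((Qc Q g).mul_mem (D.C.Qc_norm hk'a hi'g) ((Qc Q g).inv_mem hi'g))).1⟩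
    rw [hv']
    obtain ⟨a1, a2⟩ := D.stab_shape P ha hk' hk'a
    show wadd (act (π (n * k * n⁻¹)) (vec (n * i * n⁻¹))).2 _ = 0
    have e : (act (π (n * k * n⁻¹)) (vec (n * i * n⁻¹))).2 = (vec (n * i * n⁻¹)).2 :=
      act_second _ a1 a2 ((D.inter_shape P ha hO hi'Q).1 hi'g).2
    rw [e, (wadd_zero _).2.2]
  obtain ⟨e, he, hev⟩ : ∃ e, (e = 1 ∨ e = g * z * g⁻¹) ∧ vec (k * i * k⁻¹ * i⁻¹ * e) = vec l := by
    have hsl : act (π k) (vec i) = (wact thS y, (0 : W4)) := by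
      rw [hkπ, hiv]; exact act_slice 1 thS 0 y
    rcases ht with t | t
    · refine ⟨1, Or.inl rfl, ?_⟩
      rw [mul_one, hcv, hsl, hiv]
      exact Prod.ext t.symm (by simp [vadd, hl2, (wadd_zero (0 : W4)).1])
    · refine ⟨_, Or.inr rfl, ?_⟩
      rw [D.mul _ _ hc P.mem, hcv, hsl, hiv, ha]
      exact Prod.ext t.symm (by simp [vadd, hl2, (wadd_zero (0 : W4)).1])
  have hem : InL Q vec (n * e * n⁻¹) := by
    rcases he with rfl | rfl
    · simpa using D.inL_one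
    · rw [h2]; exact D.inL_z
  have heQ : e ∈ Q := by rcases he with rfl | rfl; exacts [Q.one_mem, P.mem]
  rcases D.veq (Q.mul_mem hc heQ) hlQ hev with f | f <;> rw [f]
  · rw [show n * (k * i * k⁻¹ * i⁻¹ * e) * n⁻¹ = n * (k * i * k⁻¹ * i⁻¹) * n⁻¹ * (n * e * n⁻¹) by group]
    exact D.inL_mul himg hem
  · rw [show n * (k * i * k⁻¹ * i⁻¹ * e * z) * n⁻¹ =
      n * (k * i * k⁻¹ * i⁻¹) * n⁻¹ * (n * e * n⁻¹) * (n * z * n⁻¹) by group, h1]
    exact D.inL_mul (D.inL_mul himg hem) (D.inL_a P ha)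

/-- A conjugate of `z` in `Q_a` inducing the transposition of the first factor. -/
theorem exists_c (hO : Odd3 z Q π g) :
    ∃ g₂, g₂ * z * g₂⁻¹ ∈ Qc Q g ∧ g₂ * z * g₂⁻¹ * z = z * (g₂ * z * g₂⁻¹) ∧ π (g₂ * z * g₂⁻¹) = (t0, 1) ∧
      ∀ p ∈ Q, (vec p).2 = 0 → g₂ * z * g₂⁻¹ * p = p * (g₂ * z * g₂⁻¹) := by
  obtain ⟨q, y, -, -, q1, q2, y1, y2, -⟩ := P.exists_transpositions
  set a := g * z * g⁻¹ with had
  obtain ⟨n, h1, h2⟩ : ∃ n, n * z * n⁻¹ = a ∧ n * a * n⁻¹ = z := by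
    refine ⟨(q : G) * y * q, ?_, ?_⟩
    · calc (q : G) * y * q * z * ((q : G) * y * q)⁻¹ = q * (y * ((q : G) * z * (q : G)⁻¹) * (y : G)⁻¹) * (q : G)⁻¹ := by
            group
        _ = (q : G) * (z * a) * (q : G)⁻¹ := by rw [q1, y2]
        _ = (q : G) * z * (q : G)⁻¹ * (q * a * (q : G)⁻¹) := by group
        _ = a := by rw [q1, q2, ← mul_assoc, D.C.zz, one_mul]
    · calc (q : G) * y * q * a * ((q : G) * y * q)⁻¹ = q * (y * ((q : G) * a * (q : G)⁻¹) * (y : G)⁻¹) * (q : G)⁻¹ := by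
            group
        _ = q * ((y : G) * z * (y : G)⁻¹ * (y * a * (y : G)⁻¹)) * (q : G)⁻¹ := by rw [q2]; group
        _ = z := by rw [y1, y2, mul_assoc z, show a * a = 1 from P.h'.toXSub.sq, mul_one, q1]
  have h1' : n⁻¹ * z * n⁻¹⁻¹ = a := by
    calc n⁻¹ * z * n⁻¹⁻¹ = n⁻¹ * (n * a * n⁻¹) * n := by rw [h2, inv_inv]
      _ = a := by group
  have h2' : n⁻¹ * a * n⁻¹⁻¹ = z := by
    calc n⁻¹ * a * n⁻¹⁻¹ = n⁻¹ * (n * z * n⁻¹) * n := by rw [h1, inv_inv]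
      _ = z := by group
  obtain ⟨x1, t1, xt, t0', t1'⟩ := test_points
  obtain ⟨b, hb, hbv⟩ := D.surj (pcode 1 2, 0)
  have hb2 : (vec b).2 = 0 := by rw [hbv]
  obtain ⟨kb, -, hkb, -, -, ekb⟩ := D.conj_of_slice P ha hb hbv (pcode_ne 1 2 (by decide))
  refine ⟨n * (kb * g), ?_⟩
  have hce : n * (kb * g) * z * (n * (kb * g))⁻¹ = n * b * n⁻¹ := by rw [← ekb]; group
  rw [hce]
  set c := n * b * n⁻¹ with hc
  have hcg : c ∈ Qc Q g := D.swap_Q P ha h1 hb
  have hcz : c * z = z * c := by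
    have := comm_conj n (D.slice_comm hb P.mem hb2 (by rw [ha]))
    rwa [h2] at this
  have hca : c * a = a * c := D.C.Qa P hcg
  obtain ⟨hσ, hτ1⟩ := D.stab_shape P ha hcz hca
  have hLc : ∀ l, InL Q vec l → c * l = l * c := by
    intro l hl
    have hl' := D.swap_L P ha hO h1' h2' hl
    have := comm_conj n (D.slice_comm hb hl'.1 hb2 hl'.2.1)
    rwa [show n * (n⁻¹ * l * n⁻¹⁻¹) * n⁻¹ = l by group] at this
  have hcQ : c ∉ Q := by
    intro hQ
    have := (D.inter_shape P ha hO hb).1 (by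
      have := D.swap_Q P ha h1' hQ
      rwa [show n⁻¹ * c * n⁻¹⁻¹ = b by rw [hc]; group] at this)
    rw [hbv, x1] at this
    exact absurd this.1 (by decide)
  have hτ : (π c).2 = 1 ∨ (π c).2 = tau0 := fix_perp _ fun w hw => by
    obtain ⟨l, hl, hlv⟩ := D.surj (w, 0)
    have := D.conj c l hcz hl
    rw [show c * l * c⁻¹ = l by
      rw [hLc l ⟨hl, by rw [hlv], by rw [hlv]; exact hw⟩, mul_inv_cancel_right], hlv] at this
    rw [show ((w, (0 : W4)) : Vm) = slice 0 w from rfl, act_slice, hσ] at this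
    exact (congrArg Prod.fst this).symm
  -- a second point
  obtain ⟨y', hy', hy'v⟩ := D.surj (pcode 4 5, 0)
  obtain ⟨k, τk, hk, hkπ, hkt, eky⟩ := D.conj_of_slice P ha hy' hy'v t0'
  have hbk : b ∈ Qc Q (k * g) := D.slice_mem P ha hO hk hkπ hkt hb hb2 (by rw [hbv]; exact xt)
  have hyL : InL Q vec (n * y' * n⁻¹) :=
    D.swap_L P ha hO h1 h2 ⟨hy', by rw [hy'v], by rw [hy'v]; exact t1⟩
  set w := n * y' * n⁻¹ with hwd
  have hy'e : y' = n⁻¹ * w * n := by rw [hwd]; group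
  have ht0 : (vec w).1 ≠ 0 := by
    intro h
    rcases (D.zero _ hyL.1).1 (Prod.ext h hyL.2.1) with e | e
    · rw [e, mul_one, inv_mul_cancel] at hy'e
      rw [hy'e, D.vec_one] at hy'v
      exact t0' (congrArg Prod.fst hy'v).symm
    · rw [e] at hy'e
      rw [inv_inv] at h1'
      rw [h1'] at hy'e
      rw [hy'e, ha] at hy'v
      exact t1' (congrArg Prod.fst hy'v).symm
  have ht1 : (vec w).1 ≠ 1 := by
    intro h
    rw [inv_inv] at h1' h2'
    rcases D.veq P.mem hyL.1 (ha.trans (Prod.ext h hyL.2.1).symm) with e | e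
    · rw [e, h2'] at hy'e
      rw [hy'e, D.vec_z] at hy'v
      exact t0' (congrArg Prod.fst hy'v).symm
    · rw [e, show n⁻¹ * (a * z) * n = n⁻¹ * a * n * (n⁻¹ * z * n) by group, h1', h2'] at hy'e
      rw [hy'e, D.mul _ _ D.C.zQ P.mem, D.vec_z, ha] at hy'v
      exact t1' (congrArg Prod.fst hy'v).symm
  obtain ⟨k2, τ2, hk2, hk2π, hk2t, ek2⟩ :=
    D.conj_of_slice P ha hyL.1 (show vec w = ((vec w).1, (0 : W4)) from Prod.ext rfl hyL.2.1) ht0
  have hwc : k2 * g * z * (k2 * g)⁻¹ = w := by rw [← ek2]; group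
  have hck : c ∈ Qc Q (k2 * g) := by
    refine D.C.Qc_congr (g := n * (k * g)) ?_ (mem_Qc.2 ?_)
    · rw [hwc, hwd, ← eky]; group
    · rw [show (n * (k * g))⁻¹ * c * (n * (k * g)) = (k * g)⁻¹ * b * (k * g) by rw [hc]; group]
      exact mem_Qc.1 hbk
  obtain ⟨x', hx1, hx2⟩ := exists_move _ ht0 ht1
  obtain ⟨d, hd, hdv⟩ := D.surj (x', 0)
  have hdk : d ∈ Qc Q (k2 * g) :=
    D.slice_mem P ha hO hk2 hk2π hk2t hd (by rw [hdv]) (by rw [hdv]; exact hx2)
  have hcases := (D.C.loc.conj (k2 * g)).toXSub.comm_cases hck hdk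
  rw [hwc, commutatorElement_def] at hcases
  have hv : vec (c * d * c⁻¹ * d⁻¹) = (wadd (wact (π c).2 x') x', (0 : W4)) := by
    rw [(D.vec_comm hcz hd).2, hdv, show ((x', (0 : W4)) : Vm) = slice 0 x' from rfl, act_slice, hσ, ← slice_add]
    rfl
  have hτ' : (π c).2 = 1 := by
    refine hτ.resolve_right fun e => ?_
    rw [e, tau0_move _ hx1] at hv
    rcases hcases with f | f <;> rw [f] at hv
    · rw [D.vec_one] at hv; exact absurd (congrArg Prod.fst hv) (by decide : ¬ ((0 : W4) = 1))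
    · exact ht1 (congrArg Prod.fst hv)
  have hσt : (π c).1 = t0 := by
    refine (fix_zero _ hσ).resolve_left fun e => hcQ ((D.C.π_ker c hcz).1 ?_)
    exact Prod.ext e hτ'
  have hcd : c * d = d * c := by
    rw [hτ', wact_one, (wadd_zero x').2.2] at hv
    rcases hcases with f | f
    · exact commutatorElement_eq_one_iff_mul_comm.1 (by rw [commutatorElement_def]; exact f)
    · rw [f] at hv; exact absurd (congrArg Prod.fst hv) ht0
  refine ⟨hcg, hcz, Prod.ext hσt hτ', fun p hp hp2 => ?_⟩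
  cases hb1 : beta 1 (vec p).1
  · exact hLc p ⟨hp, hp2, hb1⟩
  · have hpd : InL Q vec (p * d) := ⟨Q.mul_mem hp hd, by
      rw [D.mul p d hp hd, hdv]; show wadd (vec p).2 0 = 0; rw [hp2]; rfl, by
      rw [D.mul p d hp hd, hdv]; show beta 1 (wadd (vec p).1 x') = false
      rw [beta_add', hb1, hx1]; rfl⟩
    have h := (show Commute c (p * d) from hLc _ hpd).mul_right (show Commute c d from hcd).inv_right
    rw [mul_inv_cancel_right] at h
    exact h

end Coords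

end Cfsg.Agent.SymSixCore
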